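import Groth.Agent.Lib.EtDesc24.Subm
import Groth.Agent.Lib.SetsStage24.Val

/-!
# The correspondence of germs given by a descent datum

For a descent datum `φ` on a sheaf of sets `F'` relative to `f : X' ⟶ X` this file defines the relation
between values at two geometric points over the same geometric point of `X` and shows that it is an
equivalence relation given by bijections, holding on an open locus.
-/

universe u

open CategoryTheory CategoryTheory.Limits AlgebraicGeometry Opposite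

set_option backward.isDefEq.respectTransparency.types false

namespace Groth.Agent.EffDesc24

open Groth.Agent.EtStalk hiding agree isOpen_agree mem_agree_iff_germ agree_symm agree_trans agree_self eq_of_agree mem_agree_map mem_agree_unit
open Groth.Agent.EtDesc24 (agree isOpen_agree mem_agree_iff_germ eq_of_agree stalk_pullVia)
open Groth.Agent.SetsStage24 (val val_map val_congr' res val_res At at_res exists_at good isOpen_good mem_good_iff)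
open Groth.Agent.Gabber24 (prodFst prodSnd)
open Groth.Agent.ConnDescent24 (cmpScheme)

variable {X' X : Scheme.{u}} (f : X' ⟶ X) (F' : EtDesc.Sh X')
  (φ : (EtDesc.pullSh (pullback.fst f f)).obj F' ≅ (EtDesc.pullSh (pullback.snd f f)).obj F')

section Corr

variable {Ω : Type u} [Field Ω] [IsSepClosed Ω]

/-- The values of two sections correspond under the datum. -/
def Corr (z₁ z₂ : Spec (CommRingCat.of Ω) ⟶ X') {N N' : X'.Etale}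
    (a : Spec (CommRingCat.of Ω) ⟶ N.left) (ha : a ≫ N.hom = z₁) (s : F'.obj.obj (op N))
    (b : Spec (CommRingCat.of Ω) ⟶ N'.left) (hb : b ≫ N'.hom = z₂) (s' : F'.obj.obj (op N')) : Prop :=
  ∃ (η : Spec (CommRingCat.of Ω) ⟶ EtDesc.X2 f) (h₁ : η ≫ pullback.fst f f = z₁)
    (h₂ : η ≫ pullback.snd f f = z₂),
    (Sets.stalk η).map φ.hom
        (Sets.stalkPull (pullback.fst f f) η F' (val F' (η ≫ pullback.fst f f) a (ha.trans h₁.symm) s)) =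
      Sets.stalkPull (pullback.snd f f) η F' (val F' (η ≫ pullback.snd f f) b (hb.trans h₂.symm) s')

variable {f F' φ}
variable {z₁ z₂ z₃ : Spec (CommRingCat.of Ω) ⟶ X'} {N N' N'' : X'.Etale}
  {a : Spec (CommRingCat.of Ω) ⟶ N.left} {ha : a ≫ N.hom = z₁} {s : F'.obj.obj (op N)}
  {b : Spec (CommRingCat.of Ω) ⟶ N'.left} {hb : b ≫ N'.hom = z₂} {s' : F'.obj.obj (op N')}
  {c : Spec (CommRingCat.of Ω) ⟶ N''.left} {s'' : F'.obj.obj (op N'')}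

lemma Corr.w (h : Corr f F' φ z₁ z₂ a ha s b hb s') : z₁ ≫ f = z₂ ≫ f := by
  obtain ⟨η, rfl, rfl, -⟩ := h
  rw [Category.assoc, pullback.condition, Category.assoc]

lemma corr_iff (η : Spec (CommRingCat.of Ω) ⟶ EtDesc.X2 f) (h₁ : η ≫ pullback.fst f f = z₁)
    (h₂ : η ≫ pullback.snd f f = z₂) :
    Corr f F' φ z₁ z₂ a ha s b hb s' ↔
      (Sets.stalk η).map φ.hom
          (Sets.stalkPull (pullback.fst f f) η F' (val F' (η ≫ pullback.fst f f) a (ha.trans h₁.symm) s)) =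
        Sets.stalkPull (pullback.snd f f) η F' (val F' (η ≫ pullback.snd f f) b (hb.trans h₂.symm) s') := by
  refine ⟨fun ⟨η', h₁', h₂', h⟩ => ?_, fun h => ⟨η, h₁, h₂, h⟩⟩
  obtain rfl : η' = η := pullback.hom_ext (h₁'.trans h₁.symm) (h₂'.trans h₂.symm)
  exact h

lemma Corr.congr_right (h : Corr f F' φ z₁ z₂ a ha s b hb s') {hc : c ≫ N''.hom = z₂}
    (e : val F' z₂ b hb s' = val F' z₂ c hc s'') : Corr f F' φ z₁ z₂ a ha s c hc s'' := by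
  obtain ⟨η, rfl, rfl, h⟩ := h
  exact ⟨η, rfl, rfl, h.trans (congrArg _ e)⟩

lemma Corr.congr_left (h : Corr f F' φ z₁ z₂ a ha s b hb s') {hc : c ≫ N''.hom = z₁}
    (e : val F' z₁ a ha s = val F' z₁ c hc s'') : Corr f F' φ z₁ z₂ c hc s'' b hb s' := by
  obtain ⟨η, rfl, rfl, h⟩ := h
  exact ⟨η, rfl, rfl, ((congrArg (fun x => (Sets.stalk η).map φ.hom
    (Sets.stalkPull (pullback.fst f f) η F' x)) e).symm.trans h :)⟩

lemma Corr.right_unique (h : Corr f F' φ z₁ z₂ a ha s b hb s') {hc : c ≫ N''.hom = z₂}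
    (h' : Corr f F' φ z₁ z₂ a ha s c hc s'') : val F' z₂ b hb s' = val F' z₂ c hc s'' := by
  obtain ⟨η, rfl, rfl, h⟩ := h
  exact (ConcreteCategory.bijective_of_isIso (Sets.stalkPull (pullback.snd f f) η F')).1
    (h.symm.trans ((corr_iff η rfl rfl).1 h'))

lemma Corr.left_unique (h : Corr f F' φ z₁ z₂ a ha s b hb s') {hc : c ≫ N''.hom = z₁}
    (h' : Corr f F' φ z₁ z₂ c hc s'' b hb s') : val F' z₁ a ha s = val F' z₁ c hc s'' := by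
  obtain ⟨η, rfl, rfl, h⟩ := h
  refine (ConcreteCategory.bijective_of_isIso (Sets.stalkPull (pullback.fst f f) η F')).1 ?_
  exact (ConcreteCategory.bijective_of_isIso ((Sets.stalk η).map φ.hom)).1
    (h.trans ((corr_iff η rfl rfl).1 h').symm)

lemma exists_corr (hz : z₁ ≫ f = z₂ ≫ f) (ha : a ≫ N.hom = z₁) (s : F'.obj.obj (op N)) :
    ∃ (N' : X'.Etale) (b : Spec (CommRingCat.of Ω) ⟶ N'.left) (hb : b ≫ N'.hom = z₂)
      (s' : F'.obj.obj (op N')), Corr f F' φ z₁ z₂ a ha s b hb s' := by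
  let η := pullback.lift z₁ z₂ hz
  have h₁ : η ≫ pullback.fst f f = z₁ := pullback.lift_fst _ _ _
  have h₂ : η ≫ pullback.snd f f = z₂ := pullback.lift_snd _ _ _
  obtain ⟨p, hp⟩ := (ConcreteCategory.bijective_of_isIso (Sets.stalkPull (pullback.snd f f) η F')).2
    ((Sets.stalk η).map φ.hom
      (Sets.stalkPull (pullback.fst f f) η F' (val F' (η ≫ pullback.fst f f) a (ha.trans h₁.symm) s)))
  obtain ⟨N', y, s', rfl⟩ := Sets.germ_surjective (η ≫ pullback.snd f f) F' p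
  exact ⟨N', y.left, (Over.w y).trans h₂, s', η, h₁, h₂, hp.symm⟩

/-- The stalk of a pulled back datum. -/
lemma stalk_pullIsoVia (θ : Spec (CommRingCat.of Ω) ⟶ EtDesc.X3 f) (g : EtDesc.X3 f ⟶ EtDesc.X2 f)
    (b₁ b₂ : EtDesc.X3 f ⟶ X') (w₁ : g ≫ pullback.fst f f = b₁) (w₂ : g ≫ pullback.snd f f = b₂)
    {ha : a ≫ N.hom = θ ≫ b₁} {hb : b ≫ N'.hom = θ ≫ b₂}
    (h : Corr f F' φ (θ ≫ b₁) (θ ≫ b₂) a ha s b hb s') :
    (Sets.stalk θ).map (EtDesc.pullIsoVia g b₁ b₂ w₁ w₂ F' φ).hom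
        (Sets.stalkPull b₁ θ F' (val F' (θ ≫ b₁) a ha s)) =
      Sets.stalkPull b₂ θ F' (val F' (θ ≫ b₂) b hb s') := by
  subst w₁ w₂
  have h' := (corr_iff (θ ≫ g) (Category.assoc _ _ _) (Category.assoc _ _ _)).1 h
  have e₁ := stalk_pullVia g (pullback.fst f f) θ (g ≫ pullback.fst f f) rfl F'
    (Over.homMk a (ha.trans (Category.assoc _ _ _).symm) : fib ((θ ≫ g) ≫ pullback.fst f f) N)
    (Over.homMk a ha : fib (θ ≫ g ≫ pullback.fst f f) N) rfl s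
  have e₂ := stalk_pullVia g (pullback.snd f f) θ (g ≫ pullback.snd f f) rfl F'
    (Over.homMk b (hb.trans (Category.assoc _ _ _).symm) : fib ((θ ≫ g) ≫ pullback.snd f f) N')
    (Over.homMk b hb : fib (θ ≫ g ≫ pullback.snd f f) N') rfl s'
  have e₃ := ConcreteCategory.congr_hom (Sets.stalkPull_nat g θ φ.hom)
    (Sets.stalkPull (pullback.fst f f) (θ ≫ g) F'
      (val F' ((θ ≫ g) ≫ pullback.fst f f) a (ha.trans (Category.assoc _ _ _).symm) s))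
  rw [ConcreteCategory.comp_apply, ConcreteCategory.comp_apply] at e₃
  show (Sets.stalk θ).map ((EtDesc.pullVia g (pullback.fst f f) _ rfl F').inv ≫ (EtDesc.pullSh g).map φ.hom ≫
    (EtDesc.pullVia g (pullback.snd f f) _ rfl F').hom) _ = _
  rw [Functor.map_comp, Functor.map_comp, ConcreteCategory.comp_apply, ConcreteCategory.comp_apply]
  refine Eq.trans ?_ e₂
  refine congrArg _ (Eq.trans ?_ ((e₃.trans (congrArg _ h')) :))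
  refine congrArg _ ?_
  refine (congrArg ((Sets.stalk θ).map _) e₁.symm).trans ?_
  rw [← Functor.map_comp_apply, Iso.hom_inv_id, Functor.map_id_apply]
  rfl

variable (hφ : EtDesc.IsCocycle F' φ)
include hφ

lemma Corr.trans {hc : c ≫ N''.hom = z₃} (h : Corr f F' φ z₁ z₂ a ha s b hb s')
    (h' : Corr f F' φ z₂ z₃ b hb s' c hc s'') : Corr f F' φ z₁ z₃ a ha s c hc s'' := by
  let η₁ := pullback.lift z₁ z₂ h.w
  let η₂ := pullback.lift z₂ z₃ h'.w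
  obtain ⟨θ, k1, k2, k3⟩ : ∃ θ : Spec (CommRingCat.of Ω) ⟶ EtDesc.X3 f, θ ≫ EtDesc.q1 (f := f) = z₁ ∧
      θ ≫ EtDesc.q2 (f := f) = z₂ ∧ θ ≫ EtDesc.q3 (f := f) = z₃ := by
    refine ⟨pullback.lift η₁ η₂ ((pullback.lift_snd _ _ _).trans (pullback.lift_fst _ _ _).symm), ?_, ?_, ?_⟩
    · exact (Category.assoc _ _ _).symm.trans
        ((congrArg (· ≫ pullback.fst f f) (pullback.lift_fst _ _ _)).trans (pullback.lift_fst _ _ _))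
    · exact (Category.assoc _ _ _).symm.trans
        ((congrArg (· ≫ pullback.snd f f) (pullback.lift_fst _ _ _)).trans (pullback.lift_snd _ _ _))
    · exact (Category.assoc _ _ _).symm.trans
        ((congrArg (· ≫ pullback.snd f f) (pullback.lift_snd _ _ _)).trans (pullback.lift_snd _ _ _))
  clear η₁ η₂
  subst k1 k2 k3
  obtain ⟨N₀, c₀, hc₀, s₀, h₀⟩ := exists_corr (φ := φ) (z₂ := θ ≫ EtDesc.q3 (f := f)) (h.w.trans h'.w) ha s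
  refine h₀.congr_right ?_
  refine (ConcreteCategory.bijective_of_isIso (Sets.stalkPull (EtDesc.q3 (f := f)) θ F')).1 ?_
  rw [← stalk_pullIsoVia θ (EtDesc.p13 f) _ _ EtDesc.p13_fst EtDesc.p13_snd h₀, ← hφ,
    Functor.map_comp, ConcreteCategory.comp_apply, stalk_pullIsoVia θ (EtDesc.p12 f) _ _ rfl rfl h,
    stalk_pullIsoVia θ (EtDesc.p23 f) _ _ EtDesc.p23_fst rfl h']

lemma corr_refl (ha : a ≫ N.hom = z₁) (s : F'.obj.obj (op N)) : Corr f F' φ z₁ z₁ a ha s a ha s := by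
  obtain ⟨N₁, b₁, hb₁, s₁, h₁⟩ := exists_corr (φ := φ) (z₂ := z₁) rfl ha s
  obtain ⟨N₂, b₂, hb₂, s₂, h₂⟩ := exists_corr (φ := φ) (z₂ := z₁) rfl hb₁ s₁
  have e := h₁.right_unique (Corr.trans hφ h₁ h₂)
  have e' := h₁.left_unique (h₂.congr_right e.symm)
  exact h₁.congr_right e'.symm

lemma Corr.symm (h : Corr f F' φ z₁ z₂ a ha s b hb s') : Corr f F' φ z₂ z₁ b hb s' a ha s := by
  obtain ⟨N₁, c₁, hc₁, s₁, h₁⟩ := exists_corr (φ := φ) (z₂ := z₁) h.w.symm hb s'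
  exact h₁.congr_right ((corr_refl hφ ha s).right_unique (Corr.trans hφ h h₁)).symm

end Corr

section Locus

/-- The values of two sections of inverse images correspond. -/
def CorrT {Z₁ Z₂ : Scheme.{u}} (σ₁ : Z₁ ⟶ X') (τ₁ : ((EtDesc.pullSh σ₁).obj F').obj.obj (op (EtCoh.top Z₁)))
    (σ₂ : Z₂ ⟶ X') (τ₂ : ((EtDesc.pullSh σ₂).obj F').obj.obj (op (EtCoh.top Z₂)))
    {K : Type u} [Field K] [IsSepClosed K] (ω₁ : Spec (CommRingCat.of K) ⟶ Z₁)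
    (ω₂ : Spec (CommRingCat.of K) ⟶ Z₂) : Prop :=
  ∃ (N₁ : X'.Etale) (n₁ : Spec (CommRingCat.of K) ⟶ N₁.left) (hn₁ : n₁ ≫ N₁.hom = ω₁ ≫ σ₁)
    (s₁ : F'.obj.obj (op N₁)) (N₂ : X'.Etale) (n₂ : Spec (CommRingCat.of K) ⟶ N₂.left)
    (hn₂ : n₂ ≫ N₂.hom = ω₂ ≫ σ₂) (s₂ : F'.obj.obj (op N₂)),
    At σ₁ F' τ₁ ω₁ ω₁ (Category.comp_id ω₁) n₁ hn₁ s₁ ∧ At σ₂ F' τ₂ ω₂ ω₂ (Category.comp_id ω₂) n₂ hn₂ s₂ ∧
      Corr f F' φ (ω₁ ≫ σ₁) (ω₂ ≫ σ₂) n₁ hn₁ s₁ n₂ hn₂ s₂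

variable {f F' φ}
variable {Z₁ Z₂ Z₃ : Scheme.{u}} {σ₁ : Z₁ ⟶ X'} {τ₁ : ((EtDesc.pullSh σ₁).obj F').obj.obj (op (EtCoh.top Z₁))}
  {σ₂ : Z₂ ⟶ X'} {τ₂ : ((EtDesc.pullSh σ₂).obj F').obj.obj (op (EtCoh.top Z₂))}
  {σ₃ : Z₃ ⟶ X'} {τ₃ : ((EtDesc.pullSh σ₃).obj F').obj.obj (op (EtCoh.top Z₃))}
  {K : Type u} [Field K] [IsSepClosed K] {ω₁ : Spec (CommRingCat.of K) ⟶ Z₁}
  {ω₂ : Spec (CommRingCat.of K) ⟶ Z₂} {ω₃ : Spec (CommRingCat.of K) ⟶ Z₃}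

lemma CorrT.corr (h : CorrT f F' φ σ₁ τ₁ σ₂ τ₂ ω₁ ω₂) {N₁ N₂ : X'.Etale}
    {n₁ : Spec (CommRingCat.of K) ⟶ N₁.left} {hn₁ : n₁ ≫ N₁.hom = ω₁ ≫ σ₁} {s₁ : F'.obj.obj (op N₁)}
    {n₂ : Spec (CommRingCat.of K) ⟶ N₂.left} {hn₂ : n₂ ≫ N₂.hom = ω₂ ≫ σ₂} {s₂ : F'.obj.obj (op N₂)}
    (a₁ : At σ₁ F' τ₁ ω₁ ω₁ (Category.comp_id ω₁) n₁ hn₁ s₁)
    (a₂ : At σ₂ F' τ₂ ω₂ ω₂ (Category.comp_id ω₂) n₂ hn₂ s₂) :
    Corr f F' φ (ω₁ ≫ σ₁) (ω₂ ≫ σ₂) n₁ hn₁ s₁ n₂ hn₂ s₂ := by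
  obtain ⟨M₁, m₁, hm₁, t₁, M₂, m₂, hm₂, t₂, b₁, b₂, h⟩ := h
  exact (h.congr_left (b₁.val_eq a₁)).congr_right (b₂.val_eq a₂)

lemma CorrT.symm (hφ : EtDesc.IsCocycle F' φ) (h : CorrT f F' φ σ₁ τ₁ σ₂ τ₂ ω₁ ω₂) :
    CorrT f F' φ σ₂ τ₂ σ₁ τ₁ ω₂ ω₁ := by
  obtain ⟨M₁, m₁, hm₁, t₁, M₂, m₂, hm₂, t₂, b₁, b₂, h⟩ := h
  exact ⟨M₂, m₂, hm₂, t₂, M₁, m₁, hm₁, t₁, b₂, b₁, h.symm hφ⟩

lemma CorrT.trans (hφ : EtDesc.IsCocycle F' φ) (h : CorrT f F' φ σ₁ τ₁ σ₂ τ₂ ω₁ ω₂)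
    (h' : CorrT f F' φ σ₂ τ₂ σ₃ τ₃ ω₂ ω₃) : CorrT f F' φ σ₁ τ₁ σ₃ τ₃ ω₁ ω₃ := by
  obtain ⟨M₁, m₁, hm₁, t₁, M₂, m₂, hm₂, t₂, b₁, b₂, h⟩ := h
  obtain ⟨L₂, l₂, hl₂, r₂, L₃, l₃, hl₃, r₃, c₂, c₃, h'⟩ := h'
  exact ⟨M₁, m₁, hm₁, t₁, L₃, l₃, hl₃, r₃, b₁, c₃, h.trans hφ (h'.congr_left (c₂.val_eq b₂))⟩

lemma corrT_refl (hφ : EtDesc.IsCocycle F' φ) (ω₁ : Spec (CommRingCat.of K) ⟶ Z₁) :
    CorrT f F' φ σ₁ τ₁ σ₁ τ₁ ω₁ ω₁ := by
  obtain ⟨N, n, hn, s, hs⟩ := exists_at σ₁ F' τ₁ ω₁ ω₁ (Category.comp_id ω₁)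
  exact ⟨N, n, hn, s, N, n, hn, s, hs, hs, corr_refl hφ hn s⟩

variable (φ)

/-- The locus where two sections correspond is open and detected by any geometric point. -/
theorem exists_corr_locus {Q : Scheme.{u}} (σ₁ : Z₁ ⟶ X')
    (τ₁ : ((EtDesc.pullSh σ₁).obj F').obj.obj (op (EtCoh.top Z₁))) (σ₂ : Z₂ ⟶ X')
    (τ₂ : ((EtDesc.pullSh σ₂).obj F').obj.obj (op (EtCoh.top Z₂))) (q₁ : Q ⟶ Z₁) (q₂ : Q ⟶ Z₂)
    (hq : (q₁ ≫ σ₁) ≫ f = (q₂ ≫ σ₂) ≫ f) :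
    ∃ E : Q.Opens, ∀ (K : Type u) [Field K] [IsSepClosed K] (γ : Spec (CommRingCat.of K) ⟶ Q),
      γ default ∈ E ↔ CorrT f F' φ σ₁ τ₁ σ₂ τ₂ (γ ≫ q₁) (γ ≫ q₂) := by
  let p₁ := pullback.fst f f
  let p₂ := pullback.snd f f
  let G₂ := (EtDesc.pullSh p₂).obj F'
  let ηQ : Q ⟶ EtDesc.X2 f := pullback.lift (q₁ ≫ σ₁) (q₂ ≫ σ₂) hq
  let S (N₁ N₂ : X'.Etale) : Scheme.{u} :=
    pullback (pullback.fst q₁ (pullback.fst ((EtCoh.top Z₁).hom ≫ σ₁) N₁.hom))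
      (pullback.fst q₂ (pullback.fst ((EtCoh.top Z₂).hom ≫ σ₂) N₂.hom))
  let u (N₁ N₂ : X'.Etale) : S N₁ N₂ ⟶ Q :=
    pullback.fst _ _ ≫ pullback.fst q₁ (pullback.fst ((EtCoh.top Z₁).hom ≫ σ₁) N₁.hom)
  let c₁ (N₁ N₂ : X'.Etale) : S N₁ N₂ ⟶ cmpScheme σ₁ (EtCoh.top Z₁) N₁ :=
    pullback.fst _ _ ≫ pullback.snd q₁ (pullback.fst ((EtCoh.top Z₁).hom ≫ σ₁) N₁.hom)
  let c₂ (N₁ N₂ : X'.Etale) : S N₁ N₂ ⟶ cmpScheme σ₂ (EtCoh.top Z₂) N₂ :=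
    pullback.snd _ _ ≫ pullback.snd q₂ (pullback.fst ((EtCoh.top Z₂).hom ≫ σ₂) N₂.hom)
  let m₁ (N₁ N₂ : X'.Etale) : S N₁ N₂ ⟶ N₁.left := c₁ N₁ N₂ ≫ pullback.snd _ _
  let m₂ (N₁ N₂ : X'.Etale) : S N₁ N₂ ⟶ N₂.left := c₂ N₁ N₂ ≫ pullback.snd _ _
  have hu₁ : ∀ N₁ N₂, c₁ N₁ N₂ ≫ pullback.fst ((EtCoh.top Z₁).hom ≫ σ₁) N₁.hom = u N₁ N₂ ≫ q₁ := fun N₁ N₂ => by
    exact (Category.assoc _ _ _).trans ((congrArg (_ ≫ ·) pullback.condition.symm).trans (Category.assoc _ _ _).symm)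
  have hu₂ : ∀ N₁ N₂, c₂ N₁ N₂ ≫ pullback.fst ((EtCoh.top Z₂).hom ≫ σ₂) N₂.hom = u N₁ N₂ ≫ q₂ := fun N₁ N₂ => by
    show (pullback.snd _ _ ≫ pullback.snd q₂ _) ≫ _ = (pullback.fst _ _ ≫ pullback.fst q₁ _) ≫ q₂
    rw [Category.assoc, ← pullback.condition, ← Category.assoc, ← pullback.condition]
  have hm₁ : ∀ N₁ N₂, m₁ N₁ N₂ ≫ N₁.hom = (u N₁ N₂ ≫ q₁) ≫ σ₁ := fun N₁ N₂ => by
    show (c₁ N₁ N₂ ≫ pullback.snd _ _) ≫ N₁.hom = _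
    rw [Category.assoc, ← pullback.condition, ← Category.assoc, hu₁]
    exact congrArg ((u N₁ N₂ ≫ q₁) ≫ ·) (Category.id_comp σ₁)
  have hm₂ : ∀ N₁ N₂, m₂ N₁ N₂ ≫ N₂.hom = (u N₁ N₂ ≫ q₂) ≫ σ₂ := fun N₁ N₂ => by
    show (c₂ N₁ N₂ ≫ pullback.snd _ _) ≫ N₂.hom = _
    rw [Category.assoc, ← pullback.condition, ← Category.assoc, hu₂]
    exact congrArg ((u N₁ N₂ ≫ q₂) ≫ ·) (Category.id_comp σ₂)
  let R (N₁ N₂ : X'.Etale) : (EtDesc.X2 f).Etale := Gabber24.prod ((EtCoh.bc p₁).obj N₁) ((EtCoh.bc p₂).obj N₂)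
  let l (N₁ N₂ : X'.Etale) : S N₁ N₂ ⟶ (R N₁ N₂).left :=
    pullback.lift
      (pullback.lift (m₁ N₁ N₂) (u N₁ N₂ ≫ ηQ) (by
        rw [hm₁, Category.assoc _ ηQ, pullback.lift_fst, Category.assoc]))
      (pullback.lift (m₂ N₁ N₂) (u N₁ N₂ ≫ ηQ) (by
        rw [hm₂, Category.assoc _ ηQ, pullback.lift_snd, Category.assoc]))
      ((pullback.lift_snd _ _ _).trans (pullback.lift_snd _ _ _).symm)
  let A₁ (N₁ N₂ : X'.Etale) (s₁ : F'.obj.obj (op N₁)) : G₂.obj.obj (op (R N₁ N₂)) :=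
    G₂.obj.map (prodFst _ _).op (φ.hom.hom.app (op ((EtCoh.bc p₁).obj N₁)) (res p₁ F' s₁))
  let A₂ (N₁ N₂ : X'.Etale) (s₂ : F'.obj.obj (op N₂)) : G₂.obj.obj (op (R N₁ N₂)) :=
    G₂.obj.map (prodSnd _ _).op (res p₂ F' s₂)
  let O (N₁ N₂ : X'.Etale) (s₁ : F'.obj.obj (op N₁)) (s₂ : F'.obj.obj (op N₂)) : Set (S N₁ N₂) :=
    (c₁ N₁ N₂ ⁻¹' good σ₁ F' τ₁ s₁) ∩ (c₂ N₁ N₂ ⁻¹' good σ₂ F' τ₂ s₂) ∩
      l N₁ N₂ ⁻¹' agree G₂ (A₁ N₁ N₂ s₁) (A₂ N₁ N₂ s₂)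
  have hO : ∀ N₁ N₂ s₁ s₂ (K : Type u) [Field K] [IsSepClosed K] (κ : Spec (CommRingCat.of K) ⟶ S N₁ N₂)
      (ω₁ : Spec (CommRingCat.of K) ⟶ Z₁) (ω₂ : Spec (CommRingCat.of K) ⟶ Z₂)
      (_ : κ ≫ u N₁ N₂ ≫ q₁ = ω₁) (_ : κ ≫ u N₁ N₂ ≫ q₂ = ω₂)
      (n₁ : Spec (CommRingCat.of K) ⟶ N₁.left) (n₂ : Spec (CommRingCat.of K) ⟶ N₂.left)
      (_ : κ ≫ m₁ N₁ N₂ = n₁) (_ : κ ≫ m₂ N₁ N₂ = n₂)
      (hn₁ : n₁ ≫ N₁.hom = ω₁ ≫ σ₁) (hn₂ : n₂ ≫ N₂.hom = ω₂ ≫ σ₂),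
      κ default ∈ O N₁ N₂ s₁ s₂ ↔ At σ₁ F' τ₁ ω₁ ω₁ (Category.comp_id ω₁) n₁ hn₁ s₁ ∧
        At σ₂ F' τ₂ ω₂ ω₂ (Category.comp_id ω₂) n₂ hn₂ s₂ ∧
        Corr f F' φ (ω₁ ≫ σ₁) (ω₂ ≫ σ₂) n₁ hn₁ s₁ n₂ hn₂ s₂ := by
    intro N₁ N₂ s₁ s₂ K _ _ κ ω₁ ω₂ e₁ e₂ n₁ n₂ en₁ en₂ hn₁ hn₂
    simp only [O, Set.mem_inter_iff, Set.mem_preimage]
    rw [← Scheme.Hom.comp_apply κ (c₁ N₁ N₂), ← Scheme.Hom.comp_apply κ (c₂ N₁ N₂),
      ← Scheme.Hom.comp_apply κ (l N₁ N₂)]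
    rw [mem_good_iff σ₁ F' τ₁ s₁ (κ ≫ c₁ N₁ N₂) ω₁ ω₁ n₁
        ((Category.assoc _ _ _).trans ((congrArg (κ ≫ ·) (hu₁ N₁ N₂)).trans e₁))
        ((Category.assoc _ _ _).trans en₁) (Category.comp_id ω₁) hn₁,
      mem_good_iff σ₂ F' τ₂ s₂ (κ ≫ c₂ N₁ N₂) ω₂ ω₂ n₂
        ((Category.assoc _ _ _).trans ((congrArg (κ ≫ ·) (hu₂ N₁ N₂)).trans e₂))
        ((Category.assoc _ _ _).trans en₂) (Category.comp_id ω₂) hn₂, and_assoc]
    refine and_congr Iff.rfl (and_congr Iff.rfl ?_)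
    let η := κ ≫ u N₁ N₂ ≫ ηQ
    have h₁ : η ≫ p₁ = ω₁ ≫ σ₁ := by
      refine (Category.assoc _ _ _).trans ((congrArg (κ ≫ ·) ((Category.assoc _ _ _).trans
        (congrArg (u N₁ N₂ ≫ ·) (pullback.lift_fst _ _ _)))).trans ?_)
      exact ((congrArg (· ≫ σ₁) e₁).symm.trans ((Category.assoc _ _ _).trans
        (congrArg (κ ≫ ·) (Category.assoc _ _ _)))).symm
    have h₂ : η ≫ p₂ = ω₂ ≫ σ₂ := by
      refine (Category.assoc _ _ _).trans ((congrArg (κ ≫ ·) ((Category.assoc _ _ _).trans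
        (congrArg (u N₁ N₂ ≫ ·) (pullback.lift_snd _ _ _)))).trans ?_)
      exact ((congrArg (· ≫ σ₂) e₂).symm.trans ((Category.assoc _ _ _).trans
        (congrArg (κ ≫ ·) (Category.assoc _ _ _)))).symm
    let x₁ : Spec (CommRingCat.of K) ⟶ ((EtCoh.bc p₁).obj N₁).left :=
      pullback.lift n₁ η (hn₁.trans h₁.symm)
    let x₂ : Spec (CommRingCat.of K) ⟶ ((EtCoh.bc p₂).obj N₂).left :=
      pullback.lift n₂ η (hn₂.trans h₂.symm)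
    have hx₁ : x₁ ≫ ((EtCoh.bc p₁).obj N₁).hom = η := pullback.lift_snd _ _ _
    have hx₂ : x₂ ≫ ((EtCoh.bc p₂).obj N₂).hom = η := pullback.lift_snd _ _ _
    have hl₁ : (κ ≫ l N₁ N₂) ≫ (prodFst ((EtCoh.bc p₁).obj N₁) ((EtCoh.bc p₂).obj N₂)).left = x₁ := by
      refine (Category.assoc _ _ _).trans ((congrArg (κ ≫ ·) (pullback.lift_fst _ _ _)).trans ?_)
      refine pullback.hom_ext ?_ ?_
      · exact ((Category.assoc _ _ _).trans (congrArg (κ ≫ ·) (pullback.lift_fst _ _ _))).trans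
          (en₁.trans (pullback.lift_fst _ _ _).symm)
      · exact ((Category.assoc _ _ _).trans (congrArg (κ ≫ ·) (pullback.lift_snd _ _ _))).trans
          (pullback.lift_snd _ _ _).symm
    have hl₂ : (κ ≫ l N₁ N₂) ≫ (prodSnd ((EtCoh.bc p₁).obj N₁) ((EtCoh.bc p₂).obj N₂)).left = x₂ := by
      refine (Category.assoc _ _ _).trans ((congrArg (κ ≫ ·) (pullback.lift_snd _ _ _)).trans ?_)
      refine pullback.hom_ext ?_ ?_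
      · exact ((Category.assoc _ _ _).trans (congrArg (κ ≫ ·) (pullback.lift_fst _ _ _))).trans
          (en₂.trans (pullback.lift_fst _ _ _).symm)
      · exact ((Category.assoc _ _ _).trans (congrArg (κ ≫ ·) (pullback.lift_snd _ _ _))).trans
          (pullback.lift_snd _ _ _).symm
    let ψ : fib η (R N₁ N₂) := Over.homMk (κ ≫ l N₁ N₂) (by
      show (κ ≫ l N₁ N₂) ≫ (R N₁ N₂).hom = η
      refine ((congrArg ((κ ≫ l N₁ N₂) ≫ ·) (MorphismProperty.Over.w (prodFst _ _)).symm).trans ?_)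
      rw [← Category.assoc, hl₁, hx₁])
    refine (mem_agree_iff_germ G₂ ψ _ _).trans ?_
    show val G₂ η (κ ≫ l N₁ N₂) _ (A₁ N₁ N₂ s₁) = val G₂ η (κ ≫ l N₁ N₂) _ (A₂ N₁ N₂ s₂) ↔ _
    rw [val_map G₂ η (prodFst _ _) (κ ≫ l N₁ N₂) _ x₁ hx₁ hl₁,
      val_map G₂ η (prodSnd _ _) (κ ≫ l N₁ N₂) _ x₂ hx₂ hl₂, corr_iff η h₁ h₂,
      val_res p₂ F' η n₂ (hn₂.trans h₂.symm) x₂ hx₂ (pullback.lift_fst _ _ _),
      ← val_res p₁ F' η n₁ (hn₁.trans h₁.symm) x₁ hx₁ (pullback.lift_fst _ _ _)]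
    show _ ↔ (Sets.stalk η).map φ.hom (Sets.germ η _ (Over.homMk x₁ hx₁ : fib η ((EtCoh.bc p₁).obj N₁)) _) = _
    rw [Sets.germ_nat]
    rfl
  have hEt : ∀ N₁ N₂, AlgebraicGeometry.Etale (u N₁ N₂) := fun N₁ N₂ => by
    have e₁ : AlgebraicGeometry.Etale (pullback.fst ((EtCoh.top Z₁).hom ≫ σ₁) N₁.hom) :=
      MorphismProperty.pullback_fst _ _ N₁.prop
    have e₂ : AlgebraicGeometry.Etale (pullback.fst ((EtCoh.top Z₂).hom ≫ σ₂) N₂.hom) :=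
      MorphismProperty.pullback_fst _ _ N₂.prop
    exact MorphismProperty.comp_mem (@AlgebraicGeometry.Etale) _ _
      (MorphismProperty.pullback_fst (P := @AlgebraicGeometry.Etale) _ _
        (MorphismProperty.pullback_fst (P := @AlgebraicGeometry.Etale) _ _ e₂))
      (MorphismProperty.pullback_fst (P := @AlgebraicGeometry.Etale) _ _ e₁)
  refine ⟨⟨⋃ (N₁ : X'.Etale) (N₂ : X'.Etale) (s₁ : F'.obj.obj (op N₁)) (s₂ : F'.obj.obj (op N₂)),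
    u N₁ N₂ '' O N₁ N₂ s₁ s₂, ?_⟩, fun K _ _ γ => ?_⟩
  · refine isOpen_iUnion fun N₁ => isOpen_iUnion fun N₂ => isOpen_iUnion fun s₁ => isOpen_iUnion fun s₂ => ?_
    haveI := hEt N₁ N₂
    refine (u N₁ N₂).isOpenMap _ (IsOpen.inter (IsOpen.inter ?_ ?_) ?_)
    · exact (isOpen_good _ _ _ _).preimage (c₁ N₁ N₂).continuous
    · exact (isOpen_good _ _ _ _).preimage (c₂ N₁ N₂).continuous
    · exact (isOpen_agree _ _ _).preimage (l N₁ N₂).continuous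
  constructor
  · intro h
    simp only [TopologicalSpace.Opens.mem_mk, Set.mem_iUnion] at h
    obtain ⟨N₁, N₂, s₁, s₂, x, hx, hxq⟩ := h
    haveI := hEt N₁ N₂
    obtain ⟨k, hk⟩ := Scheme.pointSmallEtaleFiberObjToPreimage_surjective γ (s₀ := γ default) rfl
      (Scheme.Etale.mk (u N₁ N₂)) ⟨x, hxq⟩
    let κ : Spec (CommRingCat.of K) ⟶ S N₁ N₂ := k.left
    have hκ : κ ≫ u N₁ N₂ = γ := Over.w k
    have hκx : κ default = x := congrArg Subtype.val hk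
    have g₁ : κ ≫ u N₁ N₂ ≫ q₁ = γ ≫ q₁ := by rw [← Category.assoc, hκ]
    have g₂ : κ ≫ u N₁ N₂ ≫ q₂ = γ ≫ q₂ := by rw [← Category.assoc, hκ]
    have hn₁ : (κ ≫ m₁ N₁ N₂) ≫ N₁.hom = (γ ≫ q₁) ≫ σ₁ := by
      rw [Category.assoc, hm₁, ← g₁]; simp only [Category.assoc]
    have hn₂ : (κ ≫ m₂ N₁ N₂) ≫ N₂.hom = (γ ≫ q₂) ≫ σ₂ := by
      rw [Category.assoc, hm₂, ← g₂]; simp only [Category.assoc]
    exact ⟨N₁, _, hn₁, s₁, N₂, _, hn₂, s₂,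
      (hO N₁ N₂ s₁ s₂ K κ _ _ g₁ g₂ _ _ rfl rfl hn₁ hn₂).1 (hκx.symm ▸ hx)⟩
  · rintro ⟨N₁, n₁, hn₁, s₁, N₂, n₂, hn₂, s₂, h⟩
    simp only [TopologicalSpace.Opens.mem_mk, Set.mem_iUnion]
    let d₁ : Spec (CommRingCat.of K) ⟶ pullback q₁ (pullback.fst ((EtCoh.top Z₁).hom ≫ σ₁) N₁.hom) :=
      pullback.lift γ (pullback.lift (γ ≫ q₁) n₁ (by
        refine Eq.trans ?_ hn₁.symm
        show (γ ≫ q₁) ≫ 𝟙 _ ≫ σ₁ = _
        rw [Category.id_comp])) (pullback.lift_fst _ _ _).symm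
    let d₂ : Spec (CommRingCat.of K) ⟶ pullback q₂ (pullback.fst ((EtCoh.top Z₂).hom ≫ σ₂) N₂.hom) :=
      pullback.lift γ (pullback.lift (γ ≫ q₂) n₂ (by
        refine Eq.trans ?_ hn₂.symm
        show (γ ≫ q₂) ≫ 𝟙 _ ≫ σ₂ = _
        rw [Category.id_comp])) (pullback.lift_fst _ _ _).symm
    let κ : Spec (CommRingCat.of K) ⟶ S N₁ N₂ :=
      pullback.lift d₁ d₂ ((pullback.lift_fst _ _ _).trans (pullback.lift_fst _ _ _).symm)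
    have hκ : κ ≫ u N₁ N₂ = γ := by
      show pullback.lift d₁ d₂ _ ≫ pullback.fst _ _ ≫ pullback.fst _ _ = γ
      rw [pullback.lift_fst_assoc, pullback.lift_fst]
    refine ⟨N₁, N₂, s₁, s₂, κ default, ?_,
      (Scheme.Hom.comp_apply _ _ _).symm.trans (congrArg (fun g => g default) hκ)⟩
    refine (hO N₁ N₂ s₁ s₂ K κ _ _ (by rw [← Category.assoc, hκ]) (by rw [← Category.assoc, hκ]) n₁ n₂ ?_ ?_
      hn₁ hn₂).2 h
    · refine (congrArg (κ ≫ ·) (Category.assoc _ _ _)).trans ((Category.assoc _ _ _).symm.trans ?_)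
      refine (congrArg (· ≫ _) (pullback.lift_fst d₁ d₂ _)).trans ?_
      refine (Category.assoc _ _ _).symm.trans ((congrArg (· ≫ _) (pullback.lift_snd _ _ _)).trans ?_)
      exact pullback.lift_snd _ _ _
    · refine (congrArg (κ ≫ ·) (Category.assoc _ _ _)).trans ((Category.assoc _ _ _).symm.trans ?_)
      refine (congrArg (· ≫ _) (pullback.lift_snd d₁ d₂ _)).trans ?_
      refine (Category.assoc _ _ _).symm.trans ((congrArg (· ≫ _) (pullback.lift_snd _ _ _)).trans ?_)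
      exact pullback.lift_snd _ _ _

/-- A section as a section of the inverse image to its own domain. -/
theorem exists_top_section {Y : Scheme.{u}} (G : EtDesc.Sh Y) (N : Y.Etale) (s : G.obj.obj (op N)) :
    ∃ τ : ((EtDesc.pullSh N.hom).obj G).obj.obj (op (EtCoh.top N.left)),
      ∀ (K : Type u) [Field K] [IsSepClosed K] (ω : Spec (CommRingCat.of K) ⟶ N.left),
        At N.hom G τ ω ω (Category.comp_id ω) (N := N) ω rfl s := by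
  let m : EtCoh.top N.left ⟶ (EtCoh.bc N.hom).obj N :=
    MorphismProperty.Over.homMk (pullback.lift (𝟙 _) (𝟙 _) rfl) (pullback.lift_snd _ _ _)
  exact ⟨((EtDesc.pullSh N.hom).obj G).obj.map m.op (res N.hom G s), fun K _ _ ω =>
    at_res N.hom G s m ω rfl ((congrArg (ω ≫ ·) (pullback.lift_fst _ _ _)).trans (Category.comp_id ω))⟩

end Locus

end Groth.Agent.EffDesc24
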