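import Groth.Agent.Lib.EffDesc24.Datum
import Groth.Agent.Lib.EtDesc24.SubDescent

/-!
# The descended sheaf and a criterion for effectivity

The sheaf of compatible sections of `f_* F'` is a candidate for the descended sheaf.  The datum is effective
as soon as every germ of `F'` is the germ of a compatible section.
-/

universe u

open CategoryTheory CategoryTheory.Limits AlgebraicGeometry Opposite

set_option backward.isDefEq.respectTransparency.types false

namespace Groth.Agent.EffDesc24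

open Groth.Agent.EtStalk hiding agree isOpen_agree mem_agree_iff_germ agree_symm agree_trans agree_self eq_of_agree mem_agree_map mem_agree_unit
open Groth.Agent.EtDesc24 (agree isOpen_agree mem_agree_iff_germ eq_of_agree unitAt rel_unit saturated_of_rel isQuotientMap_bcFst)
open Groth.Agent.SetsStage24 (val val_map val_congr')

variable {X' X : Scheme.{u}} (f : X' ⟶ X) (F' : EtDesc.Sh X')
  (φ : (EtDesc.pullSh (pullback.fst f f)).obj F' ≅ (EtDesc.pullSh (pullback.snd f f)).obj F')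

/-- A section over a base change takes corresponding values over one point. -/
def CompatS {U : X.Etale} (t : F'.obj.obj (op ((EtCoh.bc f).obj U))) : Prop :=
  ∀ (K : Type u) [Field K] [IsSepClosed K] (a b : Spec (CommRingCat.of K) ⟶ ((EtCoh.bc f).obj U).left),
    a ≫ bcFst f U = b ≫ bcFst f U →
      Corr f F' φ (a ≫ ((EtCoh.bc f).obj U).hom) (b ≫ ((EtCoh.bc f).obj U).hom) a rfl t b rfl t

variable {f F' φ}

lemma Corr.of_eq {Ω : Type u} [Field Ω] [IsSepClosed Ω] {z₁ z₂ z₁' z₂' : Spec (CommRingCat.of Ω) ⟶ X'}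
    {N N' : X'.Etale} {a : Spec (CommRingCat.of Ω) ⟶ N.left} {ha : a ≫ N.hom = z₁} {s : F'.obj.obj (op N)}
    {b : Spec (CommRingCat.of Ω) ⟶ N'.left} {hb : b ≫ N'.hom = z₂} {s' : F'.obj.obj (op N')}
    (h : Corr f F' φ z₁ z₂ a ha s b hb s') (e₁ : z₁ = z₁') (e₂ : z₂ = z₂') :
    Corr f F' φ z₁' z₂' a (ha.trans e₁) s b (hb.trans e₂) s' := by
  subst e₁ e₂; exact h

lemma compatS_map {U V : X.Etale} (g : V ⟶ U) {t : F'.obj.obj (op ((EtCoh.bc f).obj U))}
    (ht : CompatS f F' φ t) : CompatS f F' φ (F'.obj.map ((EtCoh.bc f).map g).op t) := by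
  intro K _ _ a b hab
  let m : ((EtCoh.bc f).obj V).left ⟶ ((EtCoh.bc f).obj U).left := ((EtCoh.bc f).map g).left
  have e : ∀ x : Spec (CommRingCat.of K) ⟶ ((EtCoh.bc f).obj V).left,
      (x ≫ m) ≫ ((EtCoh.bc f).obj U).hom = x ≫ ((EtCoh.bc f).obj V).hom := fun x =>
    (Category.assoc _ _ _).trans (congrArg (x ≫ ·) (MorphismProperty.Over.w ((EtCoh.bc f).map g)))
  have h := (ht K (a ≫ m) (b ≫ m) (by
    refine ((Category.assoc _ _ _).trans ((congrArg (a ≫ ·) (bcFst_nat f g)).trans ?_))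
    refine Eq.trans ?_ (((Category.assoc _ _ _).trans (congrArg (b ≫ ·) (bcFst_nat f g)))).symm
    rw [← Category.assoc, hab, Category.assoc])).of_eq (e a) (e b)
  exact (h.congr_left (val_map F' _ ((EtCoh.bc f).map g) a rfl _ (e a) rfl t).symm).congr_right
    (val_map F' _ ((EtCoh.bc f).map g) b rfl _ (e b) rfl t).symm

variable (f F' φ)

/-- The compatible sections. -/
noncomputable def compatSub : Subfunctor ((EtDesc.pushSh f).obj F').obj where
  obj U := {t | CompatS f F' φ (U := U.unop) t}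
  map {U V} g _ ht := compatS_map g.unop ht

lemma isSheaf_compatSub : Presheaf.IsSheaf X.smallEtaleTopology (compatSub f F' φ).toFunctor := by
  rw [isSheaf_iff_isSheaf_of_type, Subfunctor.isSheaf_iff _
    ((isSheaf_iff_isSheaf_of_type _ _).1 ((EtDesc.pushSh f).obj F').property)]
  intro U t ht K _ _ a b hab
  rw [EtSite.mem_et_iff] at ht
  let ζ := a ≫ bcFst f U.unop
  obtain ⟨V, g, v, hg, hv⟩ := ht (ζ default)
  haveI := etale_left g
  obtain ⟨k, -⟩ := Scheme.pointSmallEtaleFiberObjToPreimage_surjective ζ (s₀ := ζ default) rfl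
    (Scheme.Etale.mk g.left) ⟨v, hv⟩
  let kl : Spec (CommRingCat.of K) ⟶ V.left := k.left
  have hkl : kl ≫ g.left = ζ := Over.w k
  have hlift : ∀ x : Spec (CommRingCat.of K) ⟶ ((EtCoh.bc f).obj U.unop).left, x ≫ bcFst f U.unop = ζ →
      ∃ x' : Spec (CommRingCat.of K) ⟶ ((EtCoh.bc f).obj V).left,
        x' ≫ ((EtCoh.bc f).map g).left = x ∧ x' ≫ bcFst f V = kl := by
    intro x hx
    let x' : Spec (CommRingCat.of K) ⟶ ((EtCoh.bc f).obj V).left :=
      pullback.lift kl (x ≫ ((EtCoh.bc f).obj U.unop).hom) (by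
        rw [← MorphismProperty.Over.w g, ← Category.assoc, hkl, ← hx, Category.assoc,
          show bcFst f U.unop ≫ U.unop.hom = ((EtCoh.bc f).obj U.unop).hom ≫ f from pullback.condition,
          Category.assoc])
    refine ⟨x', pullback.hom_ext ?_ ?_, pullback.lift_fst _ _ _⟩
    · refine ((Category.assoc _ _ _).trans ((congrArg (x' ≫ ·) (bcFst_nat f g)).trans ?_))
      refine (Category.assoc _ _ _).symm.trans ((congrArg (· ≫ g.left) (pullback.lift_fst _ _ _)).trans ?_)
      exact hkl.trans hx.symm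
    · refine ((Category.assoc _ _ _).trans ((congrArg (x' ≫ ·) (MorphismProperty.Over.w ((EtCoh.bc f).map g))).trans ?_))
      exact pullback.lift_snd _ _ _
  obtain ⟨a', ha, ha'⟩ := hlift a rfl
  obtain ⟨b', hb, hb'⟩ := hlift b hab.symm
  have e : ∀ (x : Spec (CommRingCat.of K) ⟶ ((EtCoh.bc f).obj U.unop).left)
      (x' : Spec (CommRingCat.of K) ⟶ ((EtCoh.bc f).obj V).left), x' ≫ ((EtCoh.bc f).map g).left = x →
      x' ≫ ((EtCoh.bc f).obj V).hom = x ≫ ((EtCoh.bc f).obj U.unop).hom := fun x x' hx => by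
    rw [← hx, Category.assoc, MorphismProperty.Over.w ((EtCoh.bc f).map g)]
  have h := ((hg : CompatS f F' φ (F'.obj.map ((EtCoh.bc f).map g).op t)) K a' b' (ha'.trans hb'.symm)).of_eq
    (e a a' ha) (e b b' hb)
  exact (h.congr_left (val_map F' _ ((EtCoh.bc f).map g) a' (e a a' ha) a rfl ha t)).congr_right
    (val_map F' _ ((EtCoh.bc f).map g) b' (e b b' hb) b rfl hb t)

/-- The descended sheaf. -/
noncomputable def compatSheaf : EtDesc.Sh X := ⟨(compatSub f F' φ).toFunctor, isSheaf_compatSub f F' φ⟩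

/-- The comparison morphism. -/
noncomputable def compatCounit : (EtDesc.pullSh f).obj (compatSheaf f F' φ) ⟶ F' :=
  ((EtDesc.adjSh f).homEquiv _ _).symm ⟨(compatSub f F' φ).ι⟩

lemma compatCounit_unit {U : X.Etale} (t : (compatSheaf f F' φ).obj.obj (op U)) :
    (compatCounit f F' φ).hom.app (op ((EtCoh.bc f).obj U)) (unitAt f (compatSheaf f F' φ) U t) = t.1 := by
  have h : (EtDesc.adjSh f).unit.app (compatSheaf f F' φ) ≫ (EtDesc.pushSh f).map (compatCounit f F' φ) =
      ⟨(compatSub f F' φ).ι⟩ :=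
    (Adjunction.homEquiv_unit (EtDesc.adjSh f) _ _ _).symm.trans (Equiv.apply_symm_apply _ _)
  exact congrArg (fun m : compatSheaf f F' φ ⟶ (EtDesc.pushSh f).obj F' => m.hom.app (op U) t) h

lemma hom_ext_stalk {Y : Scheme.{u}} {G H : EtDesc.Sh Y} {α β : G ⟶ H}
    (h : ∀ (Ω : Type u) [Field Ω] [IsSepClosed Ω] (ξ : Spec (CommRingCat.of Ω) ⟶ Y) (p : (Sets.stalk ξ).obj G),
      (Sets.stalk ξ).map α p = (Sets.stalk ξ).map β p) : α = β := by
  refine Sheaf.hom_ext (NatTrans.ext (funext fun U => ConcreteCategory.hom_ext _ _ fun s => ?_))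
  refine Sets.ext_germ _ _ fun Ω _ _ ξ x => ?_
  rw [← Sets.germ_nat, ← Sets.germ_nat]
  exact h Ω ξ _

set_option maxHeartbeats 800000 in
/-- The datum is effective when every germ comes from a compatible section. -/
theorem isEffective_of_exists_compat (hf : EtDesc.IsUnivSubmersive f)
    (hsurj : ∀ (Ω : Type u) [Field Ω] [IsSepClosed Ω] (ξ : Spec (CommRingCat.of Ω) ⟶ X') (N : X'.Etale)
      (n : Spec (CommRingCat.of Ω) ⟶ N.left) (hn : n ≫ N.hom = ξ) (s : F'.obj.obj (op N)),
      ∃ (U : X.Etale) (v : fib (ξ ≫ f) U) (t : F'.obj.obj (op ((EtCoh.bc f).obj U))), CompatS f F' φ t ∧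
        Sets.germ ξ F' (liftFib f ξ v) t = val F' ξ n hn s) :
    EtDesc.IsEffective f F' φ := by
  let F := compatSheaf f F' φ
  let ψ := compatCounit f F' φ
  have himg : ∀ {Ω : Type u} [Field Ω] [IsSepClosed Ω] (ξ : Spec (CommRingCat.of Ω) ⟶ X') {U : X.Etale}
      (v : fib (ξ ≫ f) U) (t : F.obj.obj (op U)),
      (Sets.stalk ξ).map ψ (Sets.stalkPull f ξ F (Sets.germ (ξ ≫ f) F v t)) =
        Sets.germ ξ F' (liftFib f ξ v) t.1 := by
    intro Ω _ _ ξ U v t
    rw [Sets.germ_stalkPull, Sets.germ_nat]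
    exact congrArg _ (compatCounit_unit f F' φ t)
  have hiso : IsIso ψ := by
    rw [Sets.isIso_iff_stalk]
    intro Ω _ _ ξ
    have hb := ConcreteCategory.bijective_of_isIso (Sets.stalkPull f ξ F)
    constructor
    · intro p q hpq
      obtain ⟨p', rfl⟩ := hb.2 p
      obtain ⟨q', rfl⟩ := hb.2 q
      obtain ⟨U, v, t, t', rfl, rfl⟩ := GrothendieckTopology.Point.toPresheafFiber_jointly_surjective₂
        (Scheme.pointSmallEtale (ξ ≫ f)) (A := Type (u + 1)) (CC := fun X => X) (P := F.obj) p' q'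
      change (Sets.stalk ξ).map ψ (Sets.stalkPull f ξ F (Sets.germ (ξ ≫ f) F v t)) =
        (Sets.stalk ξ).map ψ (Sets.stalkPull f ξ F (Sets.germ (ξ ≫ f) F v t')) at hpq
      show Sets.stalkPull f ξ F (Sets.germ (ξ ≫ f) F v t) = Sets.stalkPull f ξ F (Sets.germ (ξ ≫ f) F v t')
      rw [himg, himg] at hpq
      refine congrArg _ ?_
      let A := agree F' (U := (EtCoh.bc f).obj U) t.1 t'.1
      have hA : fibPt (liftFib f ξ v) ∈ A := (mem_agree_iff_germ F' (liftFib f ξ v) _ _).2 hpq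
      have hsat : ∀ z₁ z₂, bcFst f U z₁ = bcFst f U z₂ → z₁ ∈ A → z₂ ∈ A := by
        intro z₁ z₂ hz h₁
        obtain ⟨K, _, _, η, x₁, x₂, hx, rfl, rfl⟩ := saturated_of_rel f hz
        let a : Spec (CommRingCat.of K) ⟶ ((EtCoh.bc f).obj U).left := x₁.left
        let b : Spec (CommRingCat.of K) ⟶ ((EtCoh.bc f).obj U).left := x₂.left
        have h₁' := (mem_agree_iff_germ F' x₁ _ _).1 h₁
        refine (mem_agree_iff_germ F' x₂ _ _).2 ?_
        have c₁ := (t.2 K a b hx).of_eq (Over.w x₁) (Over.w x₂)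
        have c₂ := (t'.2 K a b hx).of_eq (Over.w x₁) (Over.w x₂)
        exact ((c₁.congr_left (c := a) (hc := Over.w x₁) h₁').right_unique c₂ :)
      let O : U.left.Opens := ⟨bcFst f U '' A, by
        rw [← (isQuotientMap_bcFst f hf U).isOpen_preimage]
        convert isOpen_agree F' (U := (EtCoh.bc f).obj U) t.1 t'.1 using 1
        ext w
        exact ⟨fun ⟨w', h', e⟩ => hsat w' w e h', fun h' => ⟨w, h', rfl⟩⟩⟩
      let vl : Spec (CommRingCat.of Ω) ⟶ U.left := v.left
      haveI : IsOpenImmersion (O.ι : (O : Scheme.{u}) ⟶ U.left) := Scheme.Opens.instIsOpenImmersionι O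
      let l : Spec (CommRingCat.of Ω) ⟶ (O : Scheme.{u}) := IsOpenImmersion.lift O.ι vl (by
        rintro _ ⟨x, rfl⟩
        exact ⟨⟨vl x, _, hA, (bcFst_fibPt_liftFib' f ξ v).trans (by rw [Subsingleton.elim x default]; rfl)⟩, rfl⟩)
      have hl : l ≫ O.ι = vl := IsOpenImmersion.lift_fac _ _ _
      refine (Sets.germ_eq_iff (ξ ≫ f) F v t t').2 ⟨EtSite.sub U O, EtSite.subHom U O,
        Over.homMk (l : Spec (CommRingCat.of Ω) ⟶ (EtSite.sub U O).left) (by
          show l ≫ O.ι ≫ U.hom = ξ ≫ f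
          rw [← Category.assoc, hl]
          exact Over.w v), Over.OverMorphism.ext hl, ?_⟩
      refine Subtype.ext ?_
      show F'.obj.map ((EtCoh.bc f).map (EtSite.subHom U O)).op t.1 =
        F'.obj.map ((EtCoh.bc f).map (EtSite.subHom U O)).op t'.1
      refine eq_of_agree F' fun w => ?_
      rw [SetsStage24.mem_agree_map]
      have hm : bcFst f U (((EtCoh.bc f).map (EtSite.subHom U O)).left w) ∈ O := by
        rw [← Scheme.Hom.comp_apply, bcFst_nat, Scheme.Hom.comp_apply]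
        exact (bcFst f (EtSite.sub U O) w).2
      obtain ⟨w', hw', e⟩ := hm
      exact hsat _ _ e hw'
    · intro p
      obtain ⟨N, y, s, rfl⟩ := Sets.germ_surjective ξ F' p
      obtain ⟨U, v, t, ht, htv⟩ := hsurj Ω ξ N y.left (Over.w y) s
      exact ⟨Sets.stalkPull f ξ F (Sets.germ (ξ ≫ f) F v ⟨t, ht⟩), (himg ξ v ⟨t, ht⟩).trans htv⟩
  refine ⟨F, @asIso _ _ _ _ ψ hiso, Iso.ext ?_⟩
  have key : (EtDesc.canIso f F).hom ≫ (EtDesc.pullSh (pullback.snd f f)).map ψ =
      (EtDesc.pullSh (pullback.fst f f)).map ψ ≫ φ.hom := by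
    refine hom_ext_stalk fun Ω _ _ η p => ?_
    obtain ⟨p₁, rfl⟩ := (ConcreteCategory.bijective_of_isIso
      (Sets.stalkPull (pullback.fst f f) η ((EtDesc.pullSh f).obj F))).2 p
    obtain ⟨p₂, rfl⟩ := (ConcreteCategory.bijective_of_isIso (Sets.stalkPull f (η ≫ pullback.fst f f) F)).2 p₁
    obtain ⟨U, v, t, rfl⟩ := Sets.germ_surjective _ F p₂
    let vl : Spec (CommRingCat.of Ω) ⟶ U.left := v.left
    let x₁ := liftFib f (η ≫ pullback.fst f f) v
    let x₂ : fib (η ≫ pullback.snd f f) ((EtCoh.bc f).obj U) :=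
      Over.homMk (pullback.lift vl (η ≫ pullback.snd f f) (by
        refine (Over.w v).trans ?_
        show (η ≫ pullback.fst f f) ≫ f = _
        rw [Category.assoc, pullback.condition, Category.assoc])) (pullback.lift_snd _ _ _)
    have hx : x₁.left ≫ bcFst f U = x₂.left ≫ bcFst f U :=
      (pullback.lift_fst _ _ _).trans (pullback.lift_fst _ _ _).symm
    have hrel := rel_unit f F η x₁ x₂ hx t
    unfold EtDesc24.Rel at hrel
    have e₁ := ConcreteCategory.congr_hom (Sets.stalkPull_nat (pullback.fst f f) η ψ)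
      (Sets.germ (η ≫ pullback.fst f f) ((EtDesc.pullSh f).obj F) x₁ (unitAt f F U t))
    have e₂ := ConcreteCategory.congr_hom (Sets.stalkPull_nat (pullback.snd f f) η ψ)
      (Sets.germ (η ≫ pullback.snd f f) ((EtDesc.pullSh f).obj F) x₂ (unitAt f F U t))
    rw [ConcreteCategory.comp_apply, ConcreteCategory.comp_apply, Sets.germ_nat] at e₁ e₂
    rw [show (compatCounit f F' φ).hom.app (op ((EtCoh.bc f).obj U)) (unitAt f F U t) = t.1 from
      compatCounit_unit f F' φ t] at e₁ e₂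
    rw [Functor.map_comp, Functor.map_comp, ConcreteCategory.comp_apply, ConcreteCategory.comp_apply,
      Sets.germ_stalkPull]
    refine (congrArg _ hrel).trans (e₂.trans ?_)
    refine Eq.trans ?_ (congrArg _ e₁).symm
    let a : Spec (CommRingCat.of Ω) ⟶ ((EtCoh.bc f).obj U).left := x₁.left
    let b : Spec (CommRingCat.of Ω) ⟶ ((EtCoh.bc f).obj U).left := x₂.left
    exact ((corr_iff η rfl rfl).1 ((t.2 Ω a b hx).of_eq (Over.w x₁) (Over.w x₂))).symm
  show (EtDesc.pullSh (pullback.fst f f)).map (@asIso _ _ _ _ ψ hiso).inv ≫ (EtDesc.canIso f F).hom ≫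
    (EtDesc.pullSh (pullback.snd f f)).map ψ = φ.hom
  rw [key, ← Category.assoc, ← Functor.map_comp]
  simp
where
  bcFst_fibPt_liftFib' {X' X : Scheme.{u}} (f : X' ⟶ X) {Ω : Type u} [Field Ω] [IsSepClosed Ω]
      (ξ : Spec (CommRingCat.of Ω) ⟶ X') {V : X.Etale} (y : fib (ξ ≫ f) V) :
      bcFst f V (fibPt (liftFib f ξ y)) = fibPt y := EtDesc24.bcFst_fibPt_liftFib f ξ y

end Groth.Agent.EffDesc24
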