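import Groth.Agent.Lib.EffDesc24.Proper
import Groth.Agent.Lib.EtSets24.Submersive
import Groth.Agent.Lib.SchBasic.Basic
import Groth.Agent.S1375
import Mathlib.AlgebraicGeometry.ZariskisMainTheorem
import Mathlib.AlgebraicGeometry.Morphisms.UniversallyOpen

/-!
# Effective descent along fppf morphisms

Every point of the base has an etale neighbourhood over which a finite surjective scheme maps to the source.
-/

universe u

open CategoryTheory CategoryTheory.Limits AlgebraicGeometry Opposite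

set_option backward.isDefEq.respectTransparency.types false

namespace Groth.Agent.EffDesc24

open Groth.Agent.EtStalk hiding agree isOpen_agree mem_agree_iff_germ agree_symm agree_trans agree_self eq_of_agree mem_agree_map mem_agree_unit

/-- Etale locally on the base, a finite surjective scheme maps to an fppf cover. -/
theorem exists_finite_source {X' X : Scheme.{u}} (f : X' ⟶ X) [Flat f] [LocallyOfFinitePresentation f]
    [Surjective f] (s : X) :
    ∃ (U₀ : X.Etale) (Z₀ : Scheme.{u}) (π₀ : Z₀ ⟶ U₀.left) (σ₀ : Z₀ ⟶ X'),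
      IsFinite π₀ ∧ Surjective π₀ ∧ π₀ ≫ U₀.hom = σ₀ ≫ f ∧ s ∈ Set.range U₀.hom := by
  obtain ⟨T, h, _, _, _, _, href⟩ := Groth.Agent.S1375.result f
  obtain ⟨t, rfl⟩ := (inferInstance : Surjective h).surj s
  obtain ⟨A, hA, htA, -⟩ := exists_isAffineOpen_mem_and_subset (X := X) (x := h t) (U := ⊤) trivial
  obtain ⟨W, r, htW, hr⟩ := href t
  obtain ⟨B, hB, htB, hBsub⟩ :=
    exists_isAffineOpen_mem_and_subset (X := T) (x := t) (U := h ⁻¹ᵁ A ⊓ W) ⟨htA, htW⟩
  have hBA : B ≤ h ⁻¹ᵁ A := fun x hx => (hBsub hx).1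
  have hBW : B ≤ W := fun x hx => (hBsub hx).2
  have : IsAffine (B : Scheme.{u}) := hB
  have : IsAffine (A : Scheme.{u}) := hA
  have : IsSeparated (B.ι ≫ h) := by
    rw [← Scheme.Hom.resLE_comp_ι h hBA]
    infer_instance
  obtain ⟨U, e, _, -, V, -, v, -, hfin, hv⟩ := exists_etale_isCompl_of_quasiFiniteAt (B.ι ≫ h)
    (x := (⟨t, htB⟩ : B)) (s := h t) rfl (Scheme.Hom.quasiFiniteAt _ _)
  let q := V.ι ≫ pullback.snd (B.ι ≫ h) e
  have : IsFinite q := hfin
  let O : U.Opens := ⟨Set.range q, q.isOpenMap.isOpen_range⟩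
  let π : (V : Scheme.{u}) ⟶ (O : Scheme.{u}) := IsOpenImmersion.lift O.ι q (by rw [O.range_ι]; rfl)
  have hπ : π ≫ O.ι = q := IsOpenImmersion.lift_fac _ _ _
  have : IsFinite (π ≫ O.ι) := hπ ▸ inferInstance
  let U₀ : X.Etale := Scheme.Etale.mk (O.ι ≫ e)
  refine ⟨U₀, V, π, V.ι ≫ pullback.fst (B.ι ≫ h) e ≫ T.homOfLE hBW ≫ r, IsFinite.of_comp π O.ι, ⟨fun o => ?_⟩,
    ?_, ⟨π v, ?_⟩⟩
  · obtain ⟨a, ha⟩ := o.2
    refine ⟨a, Subtype.ext ?_⟩
    rw [← hπ] at ha
    exact ha
  · show π ≫ O.ι ≫ e = _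
    simp only [Category.assoc, hr, reassoc_of% hπ, q, Scheme.homOfLE_ι_assoc, pullback.condition]
  · show (O.ι ≫ e) (π v) = _
    rw [← Scheme.Hom.comp_apply, ← Category.assoc, hπ]
    change (q ≫ e) v = _
    simp only [q, Category.assoc, ← pullback.condition]
    simp only [Scheme.Hom.comp_apply]
    change h (B.ι (pullback.fst (B.ι ≫ h) e v.1)) = h t
    rw [hv]
    rfl

variable {X' X : Scheme.{u}} {f : X' ⟶ X} {F' : EtDesc.Sh X'}
  {φ : (EtDesc.pullSh (pullback.fst f f)).obj F' ≅ (EtDesc.pullSh (pullback.snd f f)).obj F'}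

/-- Surjective flat morphisms locally of finite presentation are of effective descent. -/
theorem isEffective_of_fppf [Flat f] [LocallyOfFinitePresentation f] [Surjective f]
    (hφ : EtDesc.IsCocycle F' φ) : EtDesc.IsEffective f F' φ := by
  refine isEffective_of_exists_compat f F' φ (EtSets24.isUnivSubmersive_of_universallyOpen f) ?_
  intro Ω _ _ ξ N n hn s
  obtain ⟨U₀, Z₀, π₀, σ₀, _, _, hπ₀, hs⟩ := exists_finite_source f ((ξ ≫ f) default)
  obtain ⟨z, hz⟩ := hs
  obtain ⟨v₀, -⟩ := Scheme.pointSmallEtaleFiberObjToPreimage_surjective (ξ ≫ f) rfl U₀ ⟨z, hz⟩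
  exact exists_compat_of_proper hφ N n hn s U₀ v₀ π₀ σ₀ hπ₀

end Groth.Agent.EffDesc24
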