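import Groth.Agent.Lib.EffDesc24.Descended

/-!
# Compatible sections from sections on an auxiliary cover
-/

universe u

open CategoryTheory CategoryTheory.Limits AlgebraicGeometry Opposite

set_option backward.isDefEq.respectTransparency.types false

namespace Groth.Agent.EffDesc24

open Groth.Agent.EtStalk hiding agree isOpen_agree mem_agree_iff_germ agree_symm agree_trans agree_self eq_of_agree mem_agree_map mem_agree_unit
open Groth.Agent.SetsStage24 (val val_map val_congr' same mem_same_iff At exists_at exists_glue)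
open Groth.Agent.Gabber24 (prodFst prodSnd)

variable {X' X : Scheme.{u}} {f : X' ⟶ X} {F' : EtDesc.Sh X'}
  {φ : (EtDesc.pullSh (pullback.fst f f)).obj F' ≅ (EtDesc.pullSh (pullback.snd f f)).obj F'}

/-- Equality of values descends along extensions of the field. -/
lemma val_eq_of_comp {Y : Scheme.{u}} (G : EtDesc.Sh Y) {K K' : Type u} [Field K] [IsSepClosed K] [Field K']
    [IsSepClosed K'] (c : Spec (CommRingCat.of K') ⟶ Spec (CommRingCat.of K))
    {ζ : Spec (CommRingCat.of K) ⟶ Y} {N N' : Y.Etale} {a : Spec (CommRingCat.of K) ⟶ N.left}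
    {b : Spec (CommRingCat.of K) ⟶ N'.left} (ha : a ≫ N.hom = ζ) (hb : b ≫ N'.hom = ζ)
    {s : G.obj.obj (op N)} {s' : G.obj.obj (op N')}
    (h : val G (c ≫ ζ) (c ≫ a) (by rw [Category.assoc, ha]) s =
      val G (c ≫ ζ) (c ≫ b) (by rw [Category.assoc, hb]) s') :
    val G ζ a ha s = val G ζ b hb s' := by
  have h1 : c default ∈ same G ha hb s s' := (mem_same_iff G ha hb s s' c).2 h
  have h2 : (𝟙 (Spec (CommRingCat.of K)) : _) default ∈ same G ha hb s s' := by
    rwa [Subsingleton.elim (c default) ((𝟙 (Spec (CommRingCat.of K)) : _) default)] at h1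
  exact (val_congr' G (Category.id_comp ζ) (Category.id_comp a) (Category.id_comp b)).1
    ((mem_same_iff G ha hb s s' (𝟙 _)).1 h2)

/-- The correspondence descends along extensions of the field. -/
lemma corr_of_comp {K K' : Type u} [Field K] [IsSepClosed K] [Field K'] [IsSepClosed K']
    (c : Spec (CommRingCat.of K') ⟶ Spec (CommRingCat.of K)) {N N' : X'.Etale}
    {a : Spec (CommRingCat.of K) ⟶ N.left} {b : Spec (CommRingCat.of K) ⟶ N'.left}
    {s : F'.obj.obj (op N)} {s' : F'.obj.obj (op N')} (hab : (a ≫ N.hom) ≫ f = (b ≫ N'.hom) ≫ f)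
    (h : Corr f F' φ ((c ≫ a) ≫ N.hom) ((c ≫ b) ≫ N'.hom) (c ≫ a) rfl s (c ≫ b) rfl s') :
    Corr f F' φ (a ≫ N.hom) (b ≫ N'.hom) a rfl s b rfl s' := by
  obtain ⟨τ, hτ⟩ := exists_top_section F' N s
  obtain ⟨τ', hτ'⟩ := exists_top_section F' N' s'
  obtain ⟨E, hE⟩ := exists_corr_locus φ N.hom τ N'.hom τ' a b hab
  have h1 : c default ∈ E := (hE K' c).2 ⟨N, c ≫ a, rfl, s, N', c ≫ b, rfl, s', hτ K' _, hτ' K' _, h⟩
  have h2 : (𝟙 (Spec (CommRingCat.of K)) : _) default ∈ E := by
    rwa [Subsingleton.elim (c default) ((𝟙 (Spec (CommRingCat.of K)) : _) default)] at h1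
  have h3 := (hE K (𝟙 _)).1 h2
  rw [Category.id_comp, Category.id_comp] at h3
  exact h3.corr (hτ K a) (hτ' K b)

set_option maxHeartbeats 1000000 in
/-- A compatible section from a corresponding section on a universally submersive cover. -/
theorem exists_compat_section (hφ : EtDesc.IsCocycle F' φ) (U : X.Etale) {Z : Scheme.{u}} (π : Z ⟶ U.left)
    (σ : Z ⟶ X') (hπ : π ≫ U.hom = σ ≫ f) (hsub : EtDesc.IsUnivSubmersive π)
    (τ : ((EtDesc.pullSh σ).obj F').obj.obj (op (EtCoh.top Z)))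
    (hτ : ∀ (K : Type u) [Field K] [IsSepClosed K] (ω ω' : Spec (CommRingCat.of K) ⟶ Z),
      ω ≫ π = ω' ≫ π → CorrT f F' φ σ τ σ τ ω ω') :
    ∃ t : F'.obj.obj (op ((EtCoh.bc f).obj U)), CompatS f F' φ t ∧
      ∀ (K : Type u) [Field K] [IsSepClosed K] (ω : Spec (CommRingCat.of K) ⟶ Z)
        (a : Spec (CommRingCat.of K) ⟶ ((EtCoh.bc f).obj U).left), ω ≫ π = a ≫ bcFst f U →
        ∀ (N : X'.Etale) (n : Spec (CommRingCat.of K) ⟶ N.left) (hn : n ≫ N.hom = ω ≫ σ)
          (s : F'.obj.obj (op N)), At σ F' τ ω ω (Category.comp_id ω) n hn s →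
            Corr f F' φ (ω ≫ σ) (a ≫ ((EtCoh.bc f).obj U).hom) n hn s a rfl t := by
  let W := (EtCoh.bc f).obj U
  have hW : bcFst f U ≫ U.hom = W.hom ≫ f := pullback.condition
  have loc : ∀ x : W.left, ∃ (M : X'.Etale) (g : M ⟶ W) (s : F'.obj.obj (op M)), x ∈ Set.range g.left ∧
      ∀ (K : Type u) [Field K] [IsSepClosed K] (ω : Spec (CommRingCat.of K) ⟶ Z)
        (m : Spec (CommRingCat.of K) ⟶ M.left), ω ≫ π = m ≫ g.left ≫ bcFst f U →
        ∀ (N : X'.Etale) (n : Spec (CommRingCat.of K) ⟶ N.left) (hn : n ≫ N.hom = ω ≫ σ)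
          (r : F'.obj.obj (op N)), At σ F' τ ω ω (Category.comp_id ω) n hn r →
            Corr f F' φ (ω ≫ σ) (m ≫ M.hom) n hn r m rfl s := by
    intro x
    obtain ⟨z, hz⟩ := (hsub W.left (bcFst f U)).1 x
    let γ := geomPt (pullback π (bcFst f U)) z
    let ω₀ := γ ≫ pullback.fst π (bcFst f U)
    let a₀ := γ ≫ pullback.snd π (bcFst f U)
    have ha₀ : a₀ default = x := by
      show (γ ≫ pullback.snd π (bcFst f U)) default = x
      rw [Scheme.Hom.comp_apply, geomPt_default]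
      exact hz
    have hω₀ : ω₀ ≫ π = a₀ ≫ bcFst f U := by
      simp only [ω₀, a₀, Category.assoc, pullback.condition]
    obtain ⟨N₁, n₁, hn₁, s₁, hs₁⟩ := exists_at σ F' τ ω₀ ω₀ (Category.comp_id ω₀)
    obtain ⟨N₂, n₂, hn₂, s₂, h₂⟩ := exists_corr (φ := φ) (z₂ := a₀ ≫ W.hom) (by
      rw [Category.assoc, ← hπ, ← Category.assoc, hω₀, Category.assoc, hW]
      simp only [a₀, Category.assoc]) hn₁ s₁
    let M := Gabber24.prod W N₂
    let sM : F'.obj.obj (op M) := F'.obj.map (prodSnd W N₂).op s₂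
    obtain ⟨τM, hτM⟩ := exists_top_section F' M sM
    let pM : M.left ⟶ W.left := (prodFst W N₂).left
    let qM : M.left ⟶ U.left := pM ≫ bcFst f U
    have hpM : pM ≫ W.hom = M.hom := MorphismProperty.Over.w (prodFst W N₂)
    obtain ⟨E, hE⟩ := exists_corr_locus φ σ τ M.hom τM (pullback.fst π qM) (pullback.snd π qM) (by
      rw [Category.assoc, ← hπ, ← Category.assoc, pullback.condition, Category.assoc, Category.assoc,
        ← hpM]
      simp only [qM, Category.assoc, hW])
    let p := pullback.snd π qM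
    have hsat : ∀ z₁ z₂, p z₁ = p z₂ → z₁ ∈ E → z₂ ∈ E := by
      intro z₁ z₂ hz h₁
      obtain ⟨w, hw₁, hw₂⟩ := Scheme.Pullback.exists_preimage_pullback (f := p) (g := p) z₁ z₂ hz
      let δ := geomPt (pullback p p) w
      let γ₁ := δ ≫ pullback.fst p p
      let γ₂ := δ ≫ pullback.snd p p
      have e₁ : γ₁ default = z₁ := by
        show (δ ≫ pullback.fst p p) default = z₁
        rw [Scheme.Hom.comp_apply, geomPt_default, hw₁]
      have e₂ : γ₂ default = z₂ := by
        show (δ ≫ pullback.snd p p) default = z₂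
        rw [Scheme.Hom.comp_apply, geomPt_default, hw₂]
      have ep : γ₁ ≫ p = γ₂ ≫ p := by simp only [γ₁, γ₂, Category.assoc, pullback.condition]
      have h := (hE _ γ₁).1 (e₁.symm ▸ h₁)
      rw [← e₂]
      refine (hE _ γ₂).2 ?_
      rw [show γ₂ ≫ pullback.snd π qM = γ₁ ≫ pullback.snd π qM from ep.symm]
      refine CorrT.trans hφ (hτ _ _ _ ?_) h
      rw [Category.assoc, pullback.condition, ← Category.assoc, Category.assoc γ₁, pullback.condition,
        ← Category.assoc γ₁]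
      exact congrArg (· ≫ qM) ep.symm
    let O : M.left.Opens := ⟨p '' (E : Set _), by
      rw [← (hsub M.left qM).2.isOpen_preimage]
      convert E.isOpen using 1
      ext w
      exact ⟨fun ⟨w', h', e⟩ => hsat w' w e h', fun h' => ⟨w, h', rfl⟩⟩⟩
    refine ⟨EtSite.sub M O, EtSite.subHom M O ≫ prodFst W N₂, F'.obj.map (EtSite.subHom M O).op sM, ?_, ?_⟩
    · let m₀ : Spec (CommRingCat.of _) ⟶ M.left := pullback.lift a₀ n₂ hn₂.symm
      have hm₀ : m₀ ≫ pM = a₀ := pullback.lift_fst _ _ _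
      have hm₀' : m₀ ≫ (prodSnd W N₂).left = n₂ := pullback.lift_snd _ _ _
      have hmh : m₀ ≫ M.hom = a₀ ≫ W.hom := by rw [← hpM, ← Category.assoc, hm₀]
      let γ₀ := pullback.lift ω₀ m₀ (show ω₀ ≫ π = m₀ ≫ qM by rw [← Category.assoc, hm₀, hω₀])
      have hmem : γ₀ default ∈ E := by
        refine (hE _ γ₀).2 ?_
        rw [pullback.lift_fst, pullback.lift_snd]
        refine ⟨N₁, n₁, hn₁, s₁, M, m₀, rfl, sM, hs₁, hτM _ m₀, ?_⟩
        exact (h₂.of_eq rfl hmh.symm).congr_right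
          (val_map F' (m₀ ≫ M.hom) (prodSnd W N₂) m₀ rfl n₂ (hn₂.trans hmh.symm) hm₀' s₂).symm
      refine ⟨⟨m₀ default, ?_⟩, ?_⟩
      · exact ⟨γ₀ default, hmem, (Scheme.Hom.comp_apply _ _ _).symm.trans
          (congrArg (fun g : Spec (CommRingCat.of _) ⟶ M.left => g default) (pullback.lift_snd _ _ _))⟩
      · show pM (m₀ default) = x
        rw [← Scheme.Hom.comp_apply, hm₀, ha₀]
    · intro K _ _ ω m hm N n hn r hr
      let ml : Spec (CommRingCat.of K) ⟶ M.left := m ≫ O.ι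
      let γ₁ := pullback.lift ω ml (show ω ≫ π = ml ≫ qM by
        refine hm.trans ?_
        show m ≫ (O.ι ≫ pM) ≫ bcFst f U = (m ≫ O.ι) ≫ pM ≫ bcFst f U
        simp only [Category.assoc])
      have hp : p (γ₁ default) = ml default :=
        (Scheme.Hom.comp_apply _ _ _).symm.trans (congrArg (fun g : Spec (CommRingCat.of _) ⟶ M.left => g default) (pullback.lift_snd _ _ _))
      have hml : ml default ∈ O := by
        show (m ≫ O.ι) default ∈ O
        rw [Scheme.Hom.comp_apply]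
        exact (m default).2
      obtain ⟨w', hw', e'⟩ := hml
      have h := (hE K γ₁).1 (hsat _ _ (e'.trans hp.symm) hw')
      rw [pullback.lift_fst, pullback.lift_snd] at h
      have hmh : ml ≫ M.hom = m ≫ (EtSite.sub M O).hom := Category.assoc _ _ _
      exact ((h.corr hr (hτM K ml)).of_eq rfl hmh).congr_right
        (val_map F' _ (EtSite.subHom M O) m rfl ml hmh rfl sM).symm
  choose M g s hx hs using loc
  have hWp : ∀ {K : Type u} [Field K] (a : Spec (CommRingCat.of K) ⟶ W.left),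
      ∃ (K' : Type u) (_ : Field K') (_ : IsSepClosed K')
        (c : Spec (CommRingCat.of K') ⟶ Spec (CommRingCat.of K)) (ω : Spec (CommRingCat.of K') ⟶ Z),
        ω ≫ π = c ≫ a ≫ bcFst f U := by
    intro K _ a
    obtain ⟨z, -⟩ := (hsub _ (a ≫ bcFst f U)).1 default
    let δ := geomPt (pullback π (a ≫ bcFst f U)) z
    exact ⟨_, inferInstance, inferInstance, δ ≫ pullback.snd _ _, δ ≫ pullback.fst _ _, by
      rw [Category.assoc, pullback.condition, Category.assoc]⟩
  obtain ⟨t, ht⟩ := exists_glue F' M g s (fun x => ⟨x, hx x⟩) (by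
    intro k l K _ _ ζ a b e ha hb
    obtain ⟨K', _, _, c, ω, hω⟩ := hWp (a ≫ (g k).left)
    obtain ⟨N, n, hn, r, hr⟩ := exists_at σ F' τ ω ω (Category.comp_id ω)
    have h₁ := (hs k K' ω (c ≫ a) (by rw [hω]; simp only [Category.assoc]) N n hn r hr).of_eq rfl
      (show (c ≫ a) ≫ (M k).hom = c ≫ ζ by rw [Category.assoc, ha])
    have h₂ := (hs l K' ω (c ≫ b) (by rw [hω, e]; simp only [Category.assoc]) N n hn r hr).of_eq rfl
      (show (c ≫ b) ≫ (M l).hom = c ≫ ζ by rw [Category.assoc, hb])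
    exact val_eq_of_comp F' c ha hb (h₁.right_unique h₂))
  have hval : ∀ (K : Type u) [Field K] [IsSepClosed K] (ω : Spec (CommRingCat.of K) ⟶ Z)
      (a : Spec (CommRingCat.of K) ⟶ W.left), ω ≫ π = a ≫ bcFst f U →
      ∀ (N : X'.Etale) (n : Spec (CommRingCat.of K) ⟶ N.left) (hn : n ≫ N.hom = ω ≫ σ)
        (r : F'.obj.obj (op N)), At σ F' τ ω ω (Category.comp_id ω) n hn r →
          Corr f F' φ (ω ≫ σ) (a ≫ W.hom) n hn r a rfl t := by
    intro K _ _ ω a hωa N n hn r hr
    obtain ⟨k, y, hy⟩ : ∃ k y, (g k).left y = a default := ⟨_, hx (a default)⟩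
    haveI := etale_left (g k)
    obtain ⟨c, -⟩ := Scheme.pointSmallEtaleFiberObjToPreimage_surjective a (s₀ := a default) rfl
      (Scheme.Etale.mk (g k).left) ⟨y, hy⟩
    let a' : Spec (CommRingCat.of K) ⟶ (M k).left := c.left
    have ha' : a' ≫ (g k).left = a := Over.w c
    have hh : a' ≫ (M k).hom = a ≫ W.hom := by
      rw [← ha', Category.assoc, MorphismProperty.Over.w (g k)]
    refine ((hs k K ω a' (by rw [← Category.assoc, ha', hωa]) N n hn r hr).of_eq rfl hh).congr_right ?_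
    rw [← ht k]
    exact val_map F' _ (g k) a' hh a rfl ha' t
  refine ⟨t, fun K _ _ a b hab => ?_, hval⟩
  have hab' : (a ≫ W.hom) ≫ f = (b ≫ W.hom) ≫ f := by
    rw [Category.assoc, ← hW, ← Category.assoc, hab, Category.assoc, hW, Category.assoc]
  obtain ⟨K', _, _, c, ω, hω⟩ := hWp a
  obtain ⟨N, n, hn, r, hr⟩ := exists_at σ F' τ ω ω (Category.comp_id ω)
  have h₁ := hval K' ω (c ≫ a) (by rw [hω, Category.assoc]) N n hn r hr
  have h₂ := hval K' ω (c ≫ b) (by rw [hω, Category.assoc, hab]) N n hn r hr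
  exact corr_of_comp c hab' ((h₁.symm hφ).trans hφ h₂)

end Groth.Agent.EffDesc24
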