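import Groth.Agent.Lib.EffDesc24.Uloc

/-!
# Flat and discrete instances of effective descent
-/

universe u

open CategoryTheory CategoryTheory.Limits AlgebraicGeometry Opposite

set_option backward.isDefEq.respectTransparency.types false

namespace Groth.Agent.EffDesc24

open Groth.Agent.EtStalk hiding agree isOpen_agree mem_agree_iff_germ agree_symm agree_trans agree_self eq_of_agree mem_agree_map mem_agree_unit baseChange0_germ
open Groth.Agent.SetsStage24 (val val_map val_congr' At)

variable {X' X : Scheme.{u}} {f : X' ⟶ X} {F' : EtDesc.Sh X'}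
  {φ : (EtDesc.pullSh (pullback.fst f f)).obj F' ≅ (EtDesc.pullSh (pullback.snd f f)).obj F'}

set_option maxHeartbeats 1000000 in
/-- Flat qcqs surjective universally locally 0-acyclic morphisms are of effective descent. -/
theorem isEffective_of_uloc_qcqs [Flat f] [QuasiCompact f] [QuasiSeparated f] [Surjective f]
    (huloc : EtAcyc.IsULocZeroAcyclic f) (hφ : EtDesc.IsCocycle F' φ) : EtDesc.IsEffective f F' φ := by
  refine isEffective_of_exists_compat f F' φ (EtSets24.isUnivSubmersive_of_flat f) ?_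
  intro Ω _ _ ξ N n hn s
  let U₀ : X.Etale := EtCoh.top X
  let vl : Spec (CommRingCat.of Ω) ⟶ U₀.left := ξ ≫ f
  let v₀ : fib (ξ ≫ f) U₀ := Over.homMk vl (Category.comp_id _)
  let g : X' ⟶ U₀.left := f
  haveI : QuasiCompact g := ‹QuasiCompact f›
  haveI : QuasiSeparated g := ‹QuasiSeparated f›
  haveI : Flat g := ‹Flat f›
  haveI : Surjective g := ‹Surjective f›
  obtain ⟨V, v, hv, τ, R, b, χ, β, hβ, r₀, hrb, hrβ, -, hbg, hkey⟩ :=
    exists_uloc_section huloc N n hn s φ U₀ v₀ g (𝟙 X') ((Category.comp_id f).trans (Category.id_comp f).symm)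
  haveI : AlgebraicGeometry.Etale V.hom := V.prop
  haveI : AlgebraicGeometry.Etale U₀.hom := U₀.prop
  let U₁ : X.Etale := Scheme.Etale.mk (V.hom ≫ U₀.hom)
  let Wv := (EtCoh.bc g).obj V
  let π₁ : Wv.left ⟶ U₁.left := bcFst g V
  haveI : Flat π₁ := inferInstanceAs (Flat (pullback.fst V.hom g))
  haveI : QuasiCompact π₁ := inferInstanceAs (QuasiCompact (pullback.fst V.hom g))
  haveI : Surjective π₁ := inferInstanceAs (Surjective (pullback.fst V.hom g))
  have hr₀ : r₀ ≫ χ = ξ := by rw [← hβ, ← Category.assoc, hrβ, hn]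
  have hπ : π₁ ≫ U₁.hom = (Wv.hom ≫ 𝟙 X') ≫ f := by
    show bcFst g V ≫ V.hom ≫ 𝟙 X = (Wv.hom ≫ 𝟙 X') ≫ f
    rw [← Category.assoc, show bcFst g V ≫ V.hom = Wv.hom ≫ g from pullback.condition]
    show (Wv.hom ≫ f) ≫ 𝟙 X = _
    simp only [Category.comp_id]
    exact congrArg (· ≫ f) (Category.comp_id Wv.hom).symm
  obtain ⟨E, hE⟩ := exists_corr_locus φ (Wv.hom ≫ 𝟙 X') τ (Wv.hom ≫ 𝟙 X') τ (pullback.fst π₁ π₁)
    (pullback.snd π₁ π₁) (by
      refine ((Category.assoc _ _ f).trans ((congrArg (_ ≫ ·) hπ.symm).trans ?_))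
      refine (Category.assoc _ _ _).symm.trans ((congrArg (· ≫ U₁.hom) pullback.condition).trans ?_)
      exact (Category.assoc _ _ _).trans ((congrArg (_ ≫ ·) hπ).trans (Category.assoc _ _ _).symm))
  let p : pullback π₁ π₁ ⟶ U₁.left := pullback.fst π₁ π₁ ≫ π₁
  haveI : QuasiCompact p := inferInstance
  obtain ⟨O, hvO, hO⟩ := exists_open_disjoint_of_generizations p E.isOpen.isClosed_compl
    ((v : Spec (CommRingCat.of Ω) ⟶ U₁.left) default) (by
    rintro y hy ⟨q, hq, rfl⟩
    have hr : b (r₀ default) = (v : Spec (CommRingCat.of Ω) ⟶ U₁.left) default :=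
      (Scheme.Hom.comp_apply _ _ _).symm.trans
        (congrArg (fun t : Spec (CommRingCat.of Ω) ⟶ V.left => t default) hrb)
    rw [← hr] at hy
    obtain ⟨z, -, hz⟩ := hbg ‹_› hy
    apply hq
    let γ := geomPt (pullback π₁ π₁) q
    rw [show q = γ default from (geomPt_default q).symm]
    refine (hE _ γ).2 (corrT_of_mem_range hφ (Wv.hom ≫ 𝟙 X') (π := π₁) (uh := U₁.hom) hπ b χ β hβ hkey _ _
      (by simp only [Category.assoc, pullback.condition]) ⟨z, ?_⟩)
    refine hz.trans ?_
    show p q = ((γ ≫ pullback.fst π₁ π₁) ≫ π₁) default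
    rw [Category.assoc]
    exact ((Scheme.Hom.comp_apply γ p _).trans (congrArg p (geomPt_default q))).symm)
  haveI : Flat (π₁ ∣_ O) := MorphismProperty.of_isPullback (isPullback_morphismRestrict π₁ O).flip ‹Flat π₁›
  haveI : QuasiCompact (π₁ ∣_ O) :=
    MorphismProperty.of_isPullback (isPullback_morphismRestrict π₁ O).flip ‹QuasiCompact π₁›
  haveI : Surjective (π₁ ∣_ O) :=
    MorphismProperty.of_isPullback (isPullback_morphismRestrict π₁ O).flip ‹Surjective π₁›
  refine exists_compat_of_open hφ hn U₁ v ?_ π₁ (Wv.hom ≫ 𝟙 X') hπ τ ?_ O hvO ?_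
    (EtSets24.isUnivSubmersive_of_flat (π₁ ∣_ O))
  · show v ≫ V.hom ≫ 𝟙 X = ξ ≫ f
    rw [← Category.assoc]
    exact (congrArg (· ≫ 𝟙 X) hv).trans (Category.comp_id _)
  · intro K _ _ c ω hω
    obtain ⟨M, m, hm, r, a, ha⟩ := hkey K ω (c ≫ r₀) (by rw [Category.assoc, hrb]; exact hω)
    refine ⟨M, m, hm, r, a, (ha.of_eq (show (c ≫ r₀) ≫ χ = c ≫ ξ by rw [Category.assoc, hr₀]) rfl).congr_left ?_⟩
    exact congrArg (fun x => Sets.germ _ F' x s) (Over.OverMorphism.ext (by
      show (c ≫ r₀) ≫ β = c ≫ n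
      rw [Category.assoc, hrβ]))
  · intro K _ _ ω ω' he hmem
    let γ := pullback.lift (f := π₁) (g := π₁) ω ω' he
    have h1 : γ default ∈ E := by
      by_contra hne
      apply hO _ hne
      have h2 : p (γ default) = (ω ≫ π₁) default := by
        rw [← Scheme.Hom.comp_apply]
        show (pullback.lift ω ω' he ≫ pullback.fst π₁ π₁ ≫ π₁) default = _
        rw [pullback.lift_fst_assoc]
      rw [h2]; exact hmem
    exact ((hE K γ).1 h1).congr_snd_map (pullback.lift_fst _ _ _) (pullback.lift_snd _ _ _)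

/-- Universal openness is detected after a surjective closed immersion of the base. -/
theorem universallyOpen_of_thickening {X Y Y₀ : Scheme.{u}} (f : X ⟶ Y) (i : Y₀ ⟶ Y) [IsClosedImmersion i]
    [Surjective i] [UniversallyOpen (pullback.snd f i)] : UniversallyOpen f := by
  refine ⟨MorphismProperty.universally_mk' _ _ fun {T} t _ => ?_⟩
  let a := pullback.snd t i
  let q := pullback.fst t i
  haveI : Surjective q := MorphismProperty.pullback_fst _ _ ‹Surjective i›
  have hp : IsPullback (pullback.fst f t) (pullback.snd f t) f t := IsPullback.of_hasPullback f t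
  let k : pullback (pullback.snd f i) a ⟶ pullback f t :=
    pullback.lift (pullback.fst _ _ ≫ pullback.fst f i) (pullback.snd _ _ ≫ q) (by
      simp only [q, a, Category.assoc]
      rw [pullback.condition, pullback.condition_assoc, pullback.condition])
  have hk : k ≫ pullback.snd f t = pullback.snd (pullback.snd f i) a ≫ q := pullback.lift_snd _ _ _
  have hkp : IsPullback k (pullback.snd (pullback.snd f i) a) (pullback.snd f t) q := by
    refine IsPullback.of_right ?_ hk (IsPullback.of_hasPullback f t)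
    rw [show k ≫ pullback.fst f t = _ from pullback.lift_fst _ _ _]
    have := (IsPullback.of_hasPullback (pullback.snd f i) a).paste_horiz (IsPullback.of_hasPullback f i)
    rwa [show q ≫ t = a ≫ i from pullback.condition]
  haveI : UniversallyOpen (pullback.snd (pullback.snd f i) a) := inferInstance
  have hmain : IsOpenMap (pullback.snd f t) := by
    intro O hO
    haveI : IsClosedImmersion q := MorphismProperty.pullback_fst _ _ (inferInstance : IsClosedImmersion i)
    have hqh : IsHomeomorph q :=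
      isHomeomorph_iff_isEmbedding_surjective.2 ⟨q.isClosedEmbedding.isEmbedding, q.surjective⟩
    have e : pullback.snd f t '' O = q '' (pullback.snd (pullback.snd f i) a '' (k ⁻¹' O)) := by
      ext x
      constructor
      · rintro ⟨z, hz, rfl⟩
        obtain ⟨x', hx'⟩ := q.surjective (pullback.snd f t z)
        obtain ⟨w, hw, hw'⟩ := Scheme.exists_preimage_of_isPullback hkp z x' hx'.symm
        exact ⟨x', ⟨w, show k w ∈ O by rw [hw]; exact hz, hw'⟩, hx'⟩
      · rintro ⟨_, ⟨w, hw, rfl⟩, rfl⟩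
        exact ⟨k w, hw, by rw [← Scheme.Hom.comp_apply, hk, Scheme.Hom.comp_apply]⟩
    rw [e]
    exact hqh.isOpenMap _ ((pullback.snd (pullback.snd f i) a).isOpenMap _ (hO.preimage k.continuous))
  show IsOpenMap (pullback.fst t f)
  rw [← pullbackSymmetry_hom_comp_snd t f, Scheme.Hom.comp_base, TopCat.coe_comp]
  exact hmain.comp (pullbackSymmetry t f).hom.isOpenEmbedding.isOpenMap

/-- Morphisms to discrete schemes are universally open. -/
theorem universallyOpen_of_discrete {X Y : Scheme.{u}} (f : X ⟶ Y) [DiscreteTopology Y] : UniversallyOpen f := by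
  refine (IsZariskiLocalAtTarget.iff_of_iSup_eq_top (P := @UniversallyOpen)
    (fun y : Y => (⟨{y}, isOpen_discrete _⟩ : Y.Opens)) ?_).2 fun y => ?_
  · exact eq_top_iff.2 fun x _ => TopologicalSpace.Opens.mem_iSup.2 ⟨x, rfl⟩
  · let O : Y.Opens := ⟨{y}, isOpen_discrete _⟩
    let z : O.toScheme := ⟨y, rfl⟩
    haveI : Subsingleton O.toScheme := ⟨fun a b => Subtype.ext (a.2.trans b.2.symm)⟩
    let i := O.toScheme.fromSpecResidueField z
    haveI : Surjective i := ⟨fun a => ⟨default, Subsingleton.elim _ _⟩⟩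
    haveI : IsClosedImmersion i := IsClosedImmersion.of_isPreimmersion i (isClosed_discrete _)
    exact universallyOpen_of_thickening (f ∣_ O) i

/-- Discrete bases. -/
theorem isEffective_of_discrete {X Y X₁ Y₁ : Scheme.{u}} (g : X ⟶ Y) [Surjective g] [DiscreteTopology Y]
    {g₁ : X₁ ⟶ Y₁} {b' : X₁ ⟶ X} {b : Y₁ ⟶ Y} (h : IsPullback b' g₁ g b) {F' : EtDesc.Sh X₁}
    {φ : (EtDesc.pullSh (pullback.fst g₁ g₁)).obj F' ≅ (EtDesc.pullSh (pullback.snd g₁ g₁)).obj F'}
    (hφ : EtDesc.IsCocycle F' φ) : EtDesc.IsEffective g₁ F' φ := by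
  haveI : UniversallyOpen g := universallyOpen_of_discrete g
  haveI : UniversallyOpen g₁ := MorphismProperty.of_isPullback h ‹UniversallyOpen g›
  haveI : Surjective g₁ := MorphismProperty.of_isPullback h ‹Surjective g›
  exact isEffective_of_uloc_open
    (isULocZeroAcyclic_of_isPullback (EtSets24.isULocZeroAcyclic_of_discrete g) h) hφ

end Groth.Agent.EffDesc24
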