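import Groth.Agent.Lib.EffDesc24.Sources
import Groth.Agent.Lib.SetsGabber24.ProperBC
import Groth.Agent.Lib.EtSets24.Discrete

/-!
# Effective descent along proper or integral surjective morphisms

More generally the criterion holds at a point when, etale locally below, some proper surjective scheme maps
to the source.
-/

universe u

open CategoryTheory CategoryTheory.Limits AlgebraicGeometry Opposite

set_option backward.isDefEq.respectTransparency.types false

namespace Groth.Agent.EffDesc24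

open Groth.Agent.EtStalk hiding agree isOpen_agree mem_agree_iff_germ agree_symm agree_trans agree_self eq_of_agree mem_agree_map mem_agree_unit
open Groth.Agent.SetsStage24 (val val_map val_congr' At exists_at)
open Groth.Agent.ProperPush24 (fibreMap fibreMap_hom)

lemma isUnivSubmersive_of_universallyClosed {Z X : Scheme.{u}} (f : Z ⟶ X) [UniversallyClosed f] [Surjective f] :
    EtDesc.IsUnivSubmersive f := fun _ g =>
  ⟨(pullback.snd f g).surjective, ((pullback.snd f g).isClosedMap).isQuotientMap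
    (pullback.snd f g).continuous (pullback.snd f g).surjective⟩

variable {X' X : Scheme.{u}} {f : X' ⟶ X} {F' : EtDesc.Sh X'}
  {φ : (EtDesc.pullSh (pullback.fst f f)).obj F' ≅ (EtDesc.pullSh (pullback.snd f f)).obj F'}

set_option maxHeartbeats 2000000 in
/-- Germs come from compatible sections when a proper surjective scheme over a neighbourhood maps to `X'`. -/
theorem exists_compat_of_hensSec (hφ : EtDesc.IsCocycle F' φ) {Ω : Type u} [Field Ω] [IsSepClosed Ω]
    {ξ : Spec (CommRingCat.of Ω) ⟶ X'} (N : X'.Etale) (n : Spec (CommRingCat.of Ω) ⟶ N.left)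
    (hn : n ≫ N.hom = ξ) (s : F'.obj.obj (op N)) (U₀ : X.Etale) (v₀ : fib (ξ ≫ f) U₀) {Z₀ : Scheme.{u}}
    (π₀ : Z₀ ⟶ U₀.left) [UniversallyClosed π₀] [QuasiSeparated π₀] [Surjective π₀]
    (hπ : ProperSets24.HensSec π₀) (σ₀ : Z₀ ⟶ X') (hπ₀ : π₀ ≫ U₀.hom = σ₀ ≫ f) :
    ∃ (U : X.Etale) (v : fib (ξ ≫ f) U) (t : F'.obj.obj (op ((EtCoh.bc f).obj U))), CompatS f F' φ t ∧
      Sets.germ ξ F' (liftFib f ξ v) t = val F' ξ n hn s := by
  let vl : Spec (CommRingCat.of Ω) ⟶ U₀.left := v₀.left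
  have hvl : vl ≫ U₀.hom = ξ ≫ f := Over.w v₀
  let pX := pullback.fst π₀ vl
  let pS := pullback.snd π₀ vl
  have hP : IsPullback pX pS π₀ vl := IsPullback.of_hasPullback _ _
  let y : pullback π₀ vl ⟶ EtDesc.X2 f := pullback.lift (pS ≫ ξ) (pX ≫ σ₀) (by
    rw [Category.assoc, ← hvl, Category.assoc, ← hπ₀, ← Category.assoc, ← pullback.condition, Category.assoc])
  obtain ⟨σ', hσ'⟩ := exists_transport pX σ₀ y (pullback.lift_snd _ _ _) (EtCoh.top _) N (pS ≫ n) (by
    show (pS ≫ n) ≫ N.hom = (𝟙 _ ≫ y) ≫ pullback.fst f f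
    rw [Category.id_comp, pullback.lift_fst, Category.assoc, hn]) s φ
  obtain ⟨V, v₁, t₀, ht₀⟩ := ProperSets24.exists_section_of_hensSec hπ hP ((EtDesc.pullSh σ₀).obj F') σ'
  haveI : AlgebraicGeometry.Etale V.hom := V.prop
  haveI : AlgebraicGeometry.Etale U₀.hom := U₀.prop
  let U₁ : X.Etale := Scheme.Etale.mk (V.hom ≫ U₀.hom)
  let W := (EtCoh.bc π₀).obj V
  let π₁ : W.left ⟶ U₁.left := bcFst π₀ V
  let σ₁ := W.hom ≫ σ₀
  have hπ₁ : π₁ ≫ U₁.hom = σ₁ ≫ f := by
    show bcFst π₀ V ≫ V.hom ≫ U₀.hom = _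
    rw [← Category.assoc, show bcFst π₀ V ≫ V.hom = W.hom ≫ π₀ from pullback.condition, Category.assoc, hπ₀,
      ← Category.assoc]
  haveI : UniversallyClosed π₁ := inferInstanceAs (UniversallyClosed (pullback.fst V.hom π₀))
  haveI : Surjective π₁ := inferInstanceAs (Surjective (pullback.fst V.hom π₀))
  obtain ⟨τ₁, hτ₁⟩ := exists_comp_section σ₀ W t₀
  let v₁l : Spec (CommRingCat.of Ω) ⟶ U₁.left := v₁.left
  have hv₁ : v₁l ≫ U₁.hom = ξ ≫ f := by
    show v₁l ≫ V.hom ≫ U₀.hom = _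
    rw [← Category.assoc]
    exact (congrArg (· ≫ U₀.hom) (Over.w v₁)).trans hvl
  -- values over the chosen point
  have key : ∀ (K : Type u) [Field K] [IsSepClosed K] (c : Spec (CommRingCat.of K) ⟶ Spec (CommRingCat.of Ω))
      (ω : Spec (CommRingCat.of K) ⟶ W.left), ω ≫ π₁ = c ≫ v₁l →
      ∃ (M : X'.Etale) (m : Spec (CommRingCat.of K) ⟶ M.left) (hm : m ≫ M.hom = ω ≫ σ₁) (r : F'.obj.obj (op M)),
        At σ₁ F' τ₁ ω ω (Category.comp_id ω) m hm r ∧
          Corr f F' φ (c ≫ ξ) (ω ≫ σ₁) (c ≫ n) (by rw [Category.assoc, hn]) s m hm r := by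
    intro K _ _ c ω hω
    have hc : (ω ≫ W.hom) ≫ π₀ = c ≫ vl := by
      rw [Category.assoc, ← show bcFst π₀ V ≫ V.hom = W.hom ≫ π₀ from pullback.condition, ← Category.assoc]
      refine (congrArg (· ≫ V.hom) hω).trans ?_
      exact (Category.assoc _ _ _).trans (congrArg (c ≫ ·) (Over.w v₁))
    let ζ : Spec (CommRingCat.of K) ⟶ pullback π₀ vl := pullback.lift (ω ≫ W.hom) c hc
    have hζX : ζ ≫ pX = ω ≫ W.hom := pullback.lift_fst _ _ _
    have hζS : ζ ≫ pS = c := pullback.lift_snd _ _ _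
    have hζω : ζ ≫ fibreMap π₀ hP.w v₁ = ω := by
      apply pullback.hom_ext
      · refine (Category.assoc _ _ _).trans ((congrArg (ζ ≫ ·) (pullback.lift_fst _ _ _)).trans ?_)
        rw [← Category.assoc, hζS]
        exact hω.symm
      · refine (Category.assoc _ _ _).trans ((congrArg (ζ ≫ ·) (fibreMap_hom π₀ hP.w v₁)).trans ?_)
        exact hζX
    have hw : (c ≫ ξ) ≫ f = ((ζ ≫ pX) ≫ σ₀) ≫ f := by
      rw [hζX, Category.assoc, ← hvl, ← Category.assoc, ← hc]
      simp only [Category.assoc, hπ₀]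
    obtain ⟨M, m, hm, r, hr⟩ := exists_corr (φ := φ) (z₂ := (ζ ≫ pX) ≫ σ₀) hw
      (show (c ≫ n) ≫ N.hom = c ≫ ξ by rw [Category.assoc, hn]) s
    have hm' : m ≫ M.hom = ω ≫ σ₁ := hm.trans (by rw [hζX, Category.assoc])
    refine ⟨M, m, hm', r, ?_, hr.of_eq rfl (by rw [hζX, Category.assoc])⟩
    have h1 := hσ' K ζ ζ (Category.comp_id ζ) ((c ≫ n) ≫ N.hom)
      (congrArg (· ≫ N.hom) ((Category.assoc _ _ _).symm.trans (congrArg (· ≫ n) hζS))) M m hm r
      (by
        have := hr.of_eq (show c ≫ ξ = (c ≫ n) ≫ N.hom by rw [Category.assoc, hn]) rfl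
        have e : ζ ≫ pS ≫ n = c ≫ n := by rw [← Category.assoc, hζS]
        exact this.congr_left (congrArg (fun x => Sets.germ ((c ≫ n) ≫ N.hom) F' x s) (Over.OverMorphism.ext e.symm)))
    have h2 := (ConcreteCategory.bijective_of_isIso (Sets.stalkPull pX ζ ((EtDesc.pullSh σ₀).obj F'))).1
      ((ht₀ K ζ).symm.trans h1)
    refine hτ₁ K ω (ω ≫ W.hom) rfl M m (hm.trans (by rw [hζX])) r _ ?_
    have key2 : ∀ (q : Spec (CommRingCat.of K) ⟶ Z₀) (_ : ζ ≫ pX = q) (hq : ω ≫ W.hom = q)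
        (hm₂ : m ≫ M.hom = q ≫ σ₀),
        val ((EtDesc.pullSh σ₀).obj F') q ω hq t₀ = Sets.stalkPull σ₀ q F' (val F' (q ≫ σ₀) m hm₂ r) := by
      intro q e hq hm₂
      subst e
      refine Eq.trans ?_ h2
      exact congrArg (fun x => Sets.germ (ζ ≫ pX) ((EtDesc.pullSh σ₀).obj F') x t₀)
        (Over.OverMorphism.ext hζω.symm)
    exact key2 _ hζX rfl _
  -- the compatibility locus
  obtain ⟨E, hE⟩ := exists_corr_locus φ σ₁ τ₁ σ₁ τ₁ (pullback.fst π₁ π₁) (pullback.snd π₁ π₁) (by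
    refine ((Category.assoc _ σ₁ f).trans ((congrArg (_ ≫ ·) hπ₁.symm).trans ?_))
    refine (Category.assoc _ _ _).symm.trans ((congrArg (· ≫ U₁.hom) pullback.condition).trans ?_)
    exact (Category.assoc _ _ _).trans ((congrArg (_ ≫ ·) hπ₁).trans (Category.assoc _ _ _).symm))
  let p : pullback π₁ π₁ ⟶ U₁.left := pullback.fst π₁ π₁ ≫ π₁
  haveI : UniversallyClosed p := inferInstance
  let O : U₁.left.Opens := ⟨(p '' (E : Set _)ᶜ)ᶜ, (p.isClosedMap _ E.isOpen.isClosed_compl).isOpen_compl⟩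
  have hvO : v₁l default ∈ O := by
    rintro ⟨z, hz, hzv⟩
    obtain ⟨w, hw, -⟩ := Scheme.Pullback.exists_preimage_pullback (f := p) (g := v₁l) z default hzv
    let δ := geomPt (pullback p v₁l) w
    let γ := δ ≫ pullback.fst p v₁l
    let c := δ ≫ pullback.snd p v₁l
    have hγp : γ ≫ p = c ≫ v₁l := by simp only [γ, c, Category.assoc, pullback.condition]
    have h₁ : (γ ≫ pullback.fst π₁ π₁) ≫ π₁ = c ≫ v₁l := by rw [Category.assoc]; exact hγp
    have h₂ : (γ ≫ pullback.snd π₁ π₁) ≫ π₁ = c ≫ v₁l := by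
      rw [Category.assoc, ← pullback.condition]; exact hγp
    obtain ⟨M, m, hm, r, a, ha⟩ := key _ c _ h₁
    obtain ⟨M', m', hm', r', a', ha'⟩ := key _ c _ h₂
    have : γ default ∈ E := (hE _ γ).2 ⟨M, m, hm, r, M', m', hm', r', a, a', (ha.symm hφ).trans hφ ha'⟩
    apply hz
    rwa [show γ default = z by
      show (δ ≫ pullback.fst p v₁l) default = z
      rw [Scheme.Hom.comp_apply, geomPt_default, hw]] at this
  let U₂ := EtSite.sub U₁ O
  let Z₂ : Scheme.{u} := (π₁ ⁻¹ᵁ O).toScheme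
  let j : Z₂ ⟶ W.left := (π₁ ⁻¹ᵁ O).ι
  let π₂ : Z₂ ⟶ U₂.left := π₁ ∣_ O
  have hjπ : π₂ ≫ O.ι = j ≫ π₁ := morphismRestrict_ι π₁ O
  obtain ⟨τ₂, hτ₂⟩ := exists_restrict σ₁ j τ₁
  haveI : UniversallyClosed π₂ := inferInstanceAs (UniversallyClosed (π₁ ∣_ O))
  haveI : Surjective π₂ := MorphismProperty.of_isPullback (isPullback_morphismRestrict π₁ O).flip ‹Surjective π₁›
  haveI : IsOpenImmersion (O.ι : (O : Scheme.{u}) ⟶ U₁.left) := Scheme.Opens.instIsOpenImmersionι O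
  let l : Spec (CommRingCat.of Ω) ⟶ (O : Scheme.{u}) := IsOpenImmersion.lift O.ι v₁l (by
    rintro _ ⟨x, rfl⟩
    exact ⟨⟨v₁l x, by rw [Subsingleton.elim x default]; exact hvO⟩, rfl⟩)
  have hl : l ≫ O.ι = v₁l := IsOpenImmersion.lift_fac _ _ _
  let v₂ : fib (ξ ≫ f) U₂ := Over.homMk (l : Spec (CommRingCat.of Ω) ⟶ U₂.left) (by
    show l ≫ O.ι ≫ U₁.hom = ξ ≫ f
    rw [← Category.assoc, hl, hv₁])
  obtain ⟨z, -⟩ := (isUnivSubmersive_of_universallyClosed π₂ _ (l : Spec (CommRingCat.of Ω) ⟶ U₂.left)).1 default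
  let δ := geomPt (pullback π₂ (l : Spec (CommRingCat.of Ω) ⟶ U₂.left)) z
  let c := δ ≫ pullback.snd π₂ (l : Spec (CommRingCat.of Ω) ⟶ U₂.left)
  let ω := δ ≫ pullback.fst π₂ (l : Spec (CommRingCat.of Ω) ⟶ U₂.left)
  have hω : ω ≫ π₂ = c ≫ l := by simp only [ω, c, Category.assoc, pullback.condition]; rfl
  have hωj : (ω ≫ j) ≫ π₁ = c ≫ v₁l := by
    exact (Category.assoc _ _ _).trans ((congrArg (ω ≫ ·) hjπ.symm).trans ((Category.assoc _ _ _).symm.trans
      ((congrArg (· ≫ O.ι) hω).trans ((Category.assoc _ _ _).trans (congrArg (c ≫ ·) hl)))))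
  obtain ⟨M, m, hm, r, a, ha⟩ := key _ c (ω ≫ j) hωj
  refine exists_compat_of_cover hφ hn U₂ v₂ π₂ (j ≫ σ₁) ?_ (isUnivSubmersive_of_universallyClosed π₂) τ₂ ?_
    c ω hω M m (hm.trans (Category.assoc _ _ _)) r (hτ₂ _ ω M m hm r _ a)
    ((ha.symm hφ).of_eq (Category.assoc _ _ _) rfl)
  · show π₂ ≫ O.ι ≫ U₁.hom = _
    exact (Category.assoc _ _ _).symm.trans ((congrArg (· ≫ U₁.hom) hjπ).trans ((Category.assoc _ _ _).trans
      ((congrArg (j ≫ ·) hπ₁).trans (Category.assoc _ _ _).symm)))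
  · intro K _ _ ω₁ ω₂ he
    refine CorrT.restrict hτ₂ ?_
    let γ := pullback.lift (f := π₁) (g := π₁) (ω₁ ≫ j) (ω₂ ≫ j) (by
      rw [Category.assoc, ← hjπ, ← Category.assoc, he, Category.assoc, hjπ, Category.assoc])
    have hmem : γ default ∈ E := by
      by_contra hne
      have h3 : γ ≫ p = (ω₁ ≫ π₂) ≫ O.ι := by
        show pullback.lift (ω₁ ≫ j) (ω₂ ≫ j) _ ≫ pullback.fst π₁ π₁ ≫ π₁ = _
        rw [pullback.lift_fst_assoc, Category.assoc, Category.assoc, hjπ]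
      have h4 : p (γ default) ∈ O := by
        rw [← Scheme.Hom.comp_apply, h3, Scheme.Hom.comp_apply]
        exact ((ω₁ ≫ π₂) default).2
      exact h4 ⟨_, hne, rfl⟩
    exact ((hE K γ).1 hmem).congr_snd_map (pullback.lift_fst _ _ _) (pullback.lift_snd _ _ _)

/-- Germs come from compatible sections when a proper surjective scheme over a neighbourhood maps to `X'`. -/
theorem exists_compat_of_proper (hφ : EtDesc.IsCocycle F' φ) {Ω : Type u} [Field Ω] [IsSepClosed Ω]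
    {ξ : Spec (CommRingCat.of Ω) ⟶ X'} (N : X'.Etale) (n : Spec (CommRingCat.of Ω) ⟶ N.left)
    (hn : n ≫ N.hom = ξ) (s : F'.obj.obj (op N)) (U₀ : X.Etale) (v₀ : fib (ξ ≫ f) U₀) {Z₀ : Scheme.{u}}
    (π₀ : Z₀ ⟶ U₀.left) [IsProper π₀] [Surjective π₀] (σ₀ : Z₀ ⟶ X') (hπ₀ : π₀ ≫ U₀.hom = σ₀ ≫ f) :
    ∃ (U : X.Etale) (v : fib (ξ ≫ f) U) (t : F'.obj.obj (op ((EtCoh.bc f).obj U))), CompatS f F' φ t ∧
      Sets.germ ξ F' (liftFib f ξ v) t = val F' ξ n hn s :=
  exists_compat_of_hensSec hφ N n hn s U₀ v₀ π₀ (ProperSets24.hensSec_of_proper π₀) σ₀ hπ₀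

/-- Integral surjective morphisms are of effective descent for etale sheaves of sets. -/
theorem isEffective_of_integral [IsIntegralHom f] [Surjective f] (hφ : EtDesc.IsCocycle F' φ) :
    EtDesc.IsEffective f F' φ := by
  refine isEffective_of_exists_compat f F' φ (isUnivSubmersive_of_universallyClosed f) ?_
  intro Ω _ _ ξ N n hn s
  let π : X' ⟶ (EtCoh.top X).left := f
  haveI : IsIntegralHom π := ‹IsIntegralHom f›
  haveI : Surjective π := ‹Surjective f›
  exact exists_compat_of_hensSec hφ N n hn s (EtCoh.top X) (Over.homMk (ξ ≫ f) (Category.comp_id _))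
    π (ProperSets24.hensSec_of_integral π) (𝟙 X') ((Category.comp_id f).trans (Category.id_comp f).symm)

/-- Proper surjective morphisms are of effective descent for etale sheaves of sets. -/
theorem isEffective_of_proper [IsProper f] [Surjective f] (hφ : EtDesc.IsCocycle F' φ) :
    EtDesc.IsEffective f F' φ := by
  refine isEffective_of_exists_compat f F' φ (isUnivSubmersive_of_universallyClosed f) ?_
  intro Ω _ _ ξ N n hn s
  let π : X' ⟶ (EtCoh.top X).left := f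
  haveI : IsProper π := ‹IsProper f›
  haveI : Surjective π := ‹Surjective f›
  exact exists_compat_of_proper hφ N n hn s (EtCoh.top X) (Over.homMk (ξ ≫ f) (Category.comp_id _))
    π (𝟙 X') ((Category.comp_id f).trans (Category.id_comp f).symm)

end Groth.Agent.EffDesc24
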