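import Groth.Agent.Lib.EffDesc24.Glue
import Groth.Agent.Lib.EtSets24.EtaleLocal
import Groth.Agent.Lib.ProperPush24.Stage

/-!
# Transporting values along a descent datum
-/

universe u

open CategoryTheory CategoryTheory.Limits AlgebraicGeometry Opposite

set_option backward.isDefEq.respectTransparency.types false

namespace Groth.Agent.EffDesc24

open Groth.Agent.EtStalk hiding agree isOpen_agree mem_agree_iff_germ agree_symm agree_trans agree_self eq_of_agree mem_agree_map mem_agree_unit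
open Groth.Agent.SetsStage24 (val val_map val_congr' res val_res At at_res at_toComp toComp exists_at)

variable {X' X : Scheme.{u}} {f : X' ⟶ X} {F' : EtDesc.Sh X'}
  {φ : (EtDesc.pullSh (pullback.fst f f)).obj F' ≅ (EtDesc.pullSh (pullback.snd f f)).obj F'}

lemma CorrT.congr_snd_map {Z₁ Z₂ : Scheme.{u}} {σ₁ : Z₁ ⟶ X'}
    {τ₁ : ((EtDesc.pullSh σ₁).obj F').obj.obj (op (EtCoh.top Z₁))} {σ₂ : Z₂ ⟶ X'}
    {τ₂ : ((EtDesc.pullSh σ₂).obj F').obj.obj (op (EtCoh.top Z₂))} {K : Type u} [Field K] [IsSepClosed K]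
    {ω₁ ω₁' : Spec (CommRingCat.of K) ⟶ Z₁} {ω₂ ω₂' : Spec (CommRingCat.of K) ⟶ Z₂}
    (h : CorrT f F' φ σ₁ τ₁ σ₂ τ₂ ω₁ ω₂) (e₁ : ω₁ = ω₁') (e₂ : ω₂ = ω₂') :
    CorrT f F' φ σ₁ τ₁ σ₂ τ₂ ω₁' ω₂' := by
  subst e₁ e₂; exact h

/-- The datum transports a section to an iterated inverse image. -/
theorem exists_transport {P Z : Scheme.{u}} (ρ : P ⟶ Z) (σ₀ : Z ⟶ X') (y : P ⟶ EtDesc.X2 f)
    (hy : y ≫ pullback.snd f f = ρ ≫ σ₀) (U : P.Etale) (N : X'.Etale) (m : U.left ⟶ N.left)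
    (hm : m ≫ N.hom = (U.hom ≫ y) ≫ pullback.fst f f) (s : F'.obj.obj (op N))
    (φ : (EtDesc.pullSh (pullback.fst f f)).obj F' ≅ (EtDesc.pullSh (pullback.snd f f)).obj F') :
    ∃ σ' : ((EtDesc.pullSh ρ).obj ((EtDesc.pullSh σ₀).obj F')).obj.obj (op U),
      ∀ (K : Type u) [Field K] [IsSepClosed K] (ζ : Spec (CommRingCat.of K) ⟶ P)
        (ω : Spec (CommRingCat.of K) ⟶ U.left) (hω : ω ≫ U.hom = ζ)
        (z₁ : Spec (CommRingCat.of K) ⟶ X') (hm₁ : (ω ≫ m) ≫ N.hom = z₁)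
        (N' : X'.Etale) (n' : Spec (CommRingCat.of K) ⟶ N'.left) (hn' : n' ≫ N'.hom = (ζ ≫ ρ) ≫ σ₀)
        (s' : F'.obj.obj (op N')),
        Corr f F' φ z₁ ((ζ ≫ ρ) ≫ σ₀) (ω ≫ m) hm₁ s n' hn' s' →
        val ((EtDesc.pullSh ρ).obj ((EtDesc.pullSh σ₀).obj F')) ζ ω hω σ' =
          Sets.stalkPull ρ ζ _ (Sets.stalkPull σ₀ (ζ ≫ ρ) F' (val F' ((ζ ≫ ρ) ≫ σ₀) n' hn' s')) := by
  let p₁ := pullback.fst f f
  let p₂ := pullback.snd f f
  let m' : U.left ⟶ ((EtCoh.bc p₁).obj N).left := pullback.lift m (U.hom ≫ y) hm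
  obtain ⟨σ', hσ'⟩ := EtSets24.exists_transfer p₂ ρ σ₀ y hy F' (W := (EtCoh.bc p₁).obj N) m'
    (pullback.lift_snd _ _ _) (φ.hom.hom.app (op ((EtCoh.bc p₁).obj N)) (res p₁ F' s))
  refine ⟨σ', fun K _ _ ζ ω hω z₁ hm₁ N' n' hn' s' h => ?_⟩
  let η := ζ ≫ y
  have h₂ : η ≫ p₂ = (ζ ≫ ρ) ≫ σ₀ := by rw [Category.assoc, hy, Category.assoc]
  have hx : (ω ≫ m') ≫ ((EtCoh.bc p₁).obj N).hom = η := by
    refine (Category.assoc _ _ _).trans ((congrArg (ω ≫ ·) (pullback.lift_snd _ _ _)).trans ?_)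
    rw [← Category.assoc, hω]
  have h₁ : η ≫ p₁ = z₁ := by
    rw [← hm₁, Category.assoc ω m, hm, ← Category.assoc ω (U.hom ≫ y), ← Category.assoc ω U.hom, hω]
  refine hσ' K ζ ω hω N' n' hn' s' hx (hn'.trans h₂.symm) ?_
  have h' := (corr_iff η h₁ h₂).1 h
  refine Eq.trans ?_ h'
  have e := val_res p₁ F' η (ω ≫ m) (hm₁.trans h₁.symm) (ω ≫ m') hx
    ((Category.assoc _ _ _).trans (congrArg (ω ≫ ·) (pullback.lift_fst _ _ _))) s
  refine Eq.trans ?_ (congrArg ((Sets.stalk η).map φ.hom) e)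
  exact (Sets.germ_nat η φ.hom _ _).symm

/-- A section of an inverse image along `σ₀` gives one along a composite. -/
theorem exists_comp_section {Z₀ : Scheme.{u}} (σ₀ : Z₀ ⟶ X') (N : Z₀.Etale)
    (t : ((EtDesc.pullSh σ₀).obj F').obj.obj (op N)) :
    ∃ τ : ((EtDesc.pullSh (N.hom ≫ σ₀)).obj F').obj.obj (op (EtCoh.top N.left)),
      ∀ (K : Type u) [Field K] [IsSepClosed K] (ω : Spec (CommRingCat.of K) ⟶ N.left)
        (q : Spec (CommRingCat.of K) ⟶ Z₀) (hq : ω ≫ N.hom = q) (M : X'.Etale)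
        (n : Spec (CommRingCat.of K) ⟶ M.left) (hn : n ≫ M.hom = q ≫ σ₀) (s : F'.obj.obj (op M))
        (hn' : n ≫ M.hom = ω ≫ N.hom ≫ σ₀),
        val ((EtDesc.pullSh σ₀).obj F') q ω hq t = Sets.stalkPull σ₀ q F' (val F' (q ≫ σ₀) n hn s) →
        At (N.hom ≫ σ₀) F' τ ω ω (Category.comp_id ω) n hn' s := by
  obtain ⟨τ₀, hτ₀⟩ := exists_top_section ((EtDesc.pullSh σ₀).obj F') N t
  refine ⟨toComp F' N.hom σ₀ τ₀, fun K _ _ ω q hq M n hn s hn' h => ?_⟩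
  subst hq
  exact at_toComp F' N.hom σ₀ τ₀ ω (Category.comp_id ω) n hn s ((hτ₀ K ω).trans (congrArg _ h))

/-- Restriction of a section of an inverse image. -/
theorem exists_restrict {Z₁ Z₂ : Scheme.{u}} (σ₁ : Z₁ ⟶ X') (j : Z₂ ⟶ Z₁)
    (τ₁ : ((EtDesc.pullSh σ₁).obj F').obj.obj (op (EtCoh.top Z₁))) :
    ∃ τ₂ : ((EtDesc.pullSh (j ≫ σ₁)).obj F').obj.obj (op (EtCoh.top Z₂)),
      ∀ (K : Type u) [Field K] [IsSepClosed K] (ω : Spec (CommRingCat.of K) ⟶ Z₂) (M : X'.Etale)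
        (n : Spec (CommRingCat.of K) ⟶ M.left) (hn : n ≫ M.hom = (ω ≫ j) ≫ σ₁) (s : F'.obj.obj (op M))
        (hn' : n ≫ M.hom = ω ≫ j ≫ σ₁),
        At σ₁ F' τ₁ (ω ≫ j) (ω ≫ j) (Category.comp_id _) n hn s →
          At (j ≫ σ₁) F' τ₂ ω ω (Category.comp_id ω) n hn' s := by
  let m : EtCoh.top Z₂ ⟶ (EtCoh.bc j).obj (EtCoh.top Z₁) :=
    MorphismProperty.Over.homMk (pullback.lift j (𝟙 _) ((Category.comp_id j).trans (Category.id_comp j).symm))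
      (pullback.lift_snd _ _ _)
  let τ := ((EtDesc.pullSh j).obj ((EtDesc.pullSh σ₁).obj F')).obj.map m.op (res j ((EtDesc.pullSh σ₁).obj F') τ₁)
  refine ⟨toComp F' j σ₁ τ, fun K _ _ ω M n hn s hn' h => ?_⟩
  refine at_toComp F' j σ₁ τ ω (Category.comp_id ω) n hn s ?_
  exact (at_res j ((EtDesc.pullSh σ₁).obj F') τ₁ m (ω ≫ j) (Category.comp_id _)
    (congrArg (ω ≫ ·) (pullback.lift_fst _ _ _))).trans (congrArg _ h)

/-- Agreement on the restriction. -/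
lemma CorrT.restrict {Z₁ Z₂ : Scheme.{u}} {σ₁ : Z₁ ⟶ X'} {j : Z₂ ⟶ Z₁}
    {τ₁ : ((EtDesc.pullSh σ₁).obj F').obj.obj (op (EtCoh.top Z₁))}
    {τ₂ : ((EtDesc.pullSh (j ≫ σ₁)).obj F').obj.obj (op (EtCoh.top Z₂))}
    (h₂ : ∀ (K : Type u) [Field K] [IsSepClosed K] (ω : Spec (CommRingCat.of K) ⟶ Z₂) (M : X'.Etale)
        (n : Spec (CommRingCat.of K) ⟶ M.left) (hn : n ≫ M.hom = (ω ≫ j) ≫ σ₁) (s : F'.obj.obj (op M))
        (hn' : n ≫ M.hom = ω ≫ j ≫ σ₁),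
        At σ₁ F' τ₁ (ω ≫ j) (ω ≫ j) (Category.comp_id _) n hn s →
          At (j ≫ σ₁) F' τ₂ ω ω (Category.comp_id ω) n hn' s)
    {K : Type u} [Field K] [IsSepClosed K] {ω ω' : Spec (CommRingCat.of K) ⟶ Z₂}
    (h : CorrT f F' φ σ₁ τ₁ σ₁ τ₁ (ω ≫ j) (ω' ≫ j)) :
    CorrT f F' φ (j ≫ σ₁) τ₂ (j ≫ σ₁) τ₂ ω ω' := by
  obtain ⟨N, n, hn, s, N', n', hn', s', a, a', c⟩ := h
  exact ⟨N, n, hn.trans (Category.assoc _ _ _), s, N', n', hn'.trans (Category.assoc _ _ _), s',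
    h₂ K ω N n hn s _ a, h₂ K ω' N' n' hn' s' _ a', c.of_eq (Category.assoc _ _ _) (Category.assoc _ _ _)⟩

/-- The hypothesis of the effectivity criterion from an auxiliary cover. -/
theorem exists_compat_of_cover (hφ : EtDesc.IsCocycle F' φ) {Ω : Type u} [Field Ω] [IsSepClosed Ω]
    {ξ : Spec (CommRingCat.of Ω) ⟶ X'} {N : X'.Etale} {n : Spec (CommRingCat.of Ω) ⟶ N.left}
    (hn : n ≫ N.hom = ξ) {s : F'.obj.obj (op N)} (U : X.Etale) (v : fib (ξ ≫ f) U) {Z : Scheme.{u}}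
    (π : Z ⟶ U.left) (σ : Z ⟶ X') (hπ : π ≫ U.hom = σ ≫ f) (hsub : EtDesc.IsUnivSubmersive π)
    (τ : ((EtDesc.pullSh σ).obj F').obj.obj (op (EtCoh.top Z)))
    (hτ : ∀ (K : Type u) [Field K] [IsSepClosed K] (ω ω' : Spec (CommRingCat.of K) ⟶ Z),
      ω ≫ π = ω' ≫ π → CorrT f F' φ σ τ σ τ ω ω')
    {K : Type u} [Field K] [IsSepClosed K] (c : Spec (CommRingCat.of K) ⟶ Spec (CommRingCat.of Ω))
    (ω : Spec (CommRingCat.of K) ⟶ Z) (hω : ω ≫ π = c ≫ v.left) (M : X'.Etale)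
    (m : Spec (CommRingCat.of K) ⟶ M.left) (hm : m ≫ M.hom = ω ≫ σ) (r : F'.obj.obj (op M))
    (hr : At σ F' τ ω ω (Category.comp_id ω) m hm r)
    (hc : Corr f F' φ (ω ≫ σ) (c ≫ ξ) m hm r (c ≫ n) (by rw [Category.assoc, hn]) s) :
    ∃ (U : X.Etale) (v : fib (ξ ≫ f) U) (t : F'.obj.obj (op ((EtCoh.bc f).obj U))), CompatS f F' φ t ∧
      Sets.germ ξ F' (liftFib f ξ v) t = val F' ξ n hn s := by
  obtain ⟨t, ht, hv⟩ := exists_compat_section hφ U π σ hπ hsub τ hτ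
  refine ⟨U, v, t, ht, ?_⟩
  let a : Spec (CommRingCat.of Ω) ⟶ ((EtCoh.bc f).obj U).left := (liftFib f ξ v).left
  have ha : a ≫ ((EtCoh.bc f).obj U).hom = ξ := Over.w (liftFib f ξ v)
  have hav : a ≫ bcFst f U = v.left := pullback.lift_fst _ _ _
  have h := (hv K ω (c ≫ a) (hω.trans ((congrArg (c ≫ ·) hav.symm).trans (Category.assoc _ _ _).symm)) M m hm r hr).of_eq rfl
    (show (c ≫ a) ≫ ((EtCoh.bc f).obj U).hom = c ≫ ξ by rw [Category.assoc, ha])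
  show val F' ξ a ha t = val F' ξ n hn s
  exact val_eq_of_comp F' c ha hn (h.right_unique hc)

/-- An open neighbourhood avoiding the image of a closed set, from generizations. -/
theorem exists_open_disjoint_of_generizations {Q V : Scheme.{u}} (p : Q ⟶ V) [QuasiCompact p] {C : Set Q}
    (hC : IsClosed C) (v : V) (h : ∀ y, y ⤳ v → y ∉ p '' C) :
    ∃ O : V.Opens, v ∈ O ∧ ∀ c ∈ C, p c ∉ O := by
  refine ⟨⟨(closure (p '' C))ᶜ, isClosed_closure.isOpen_compl⟩, fun hmem => ?_,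
    fun c hc hm => hm (subset_closure ⟨c, hc, rfl⟩)⟩
  obtain ⟨z, hz, hsp⟩ := GrpdB.exists_specializes_of_mem_closure_image p hC hmem
  exact h _ hsp ⟨z, hz, rfl⟩

end Groth.Agent.EffDesc24
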