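import Groth.Agent.Lib.EffDesc24.Proper
import Groth.Agent.Lib.EtSets24.BaseChange
import Groth.Agent.Lib.EtSets24.FlatFibres

/-!
# Effective descent along universally locally 0-acyclic morphisms
-/

universe u

open CategoryTheory CategoryTheory.Limits AlgebraicGeometry Opposite

set_option backward.isDefEq.respectTransparency.types false

namespace Groth.Agent.EffDesc24

open Groth.Agent.EtStalk hiding agree isOpen_agree mem_agree_iff_germ agree_symm agree_trans agree_self eq_of_agree mem_agree_map mem_agree_unit baseChange0_germ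
open Groth.Agent.EtDesc24 (baseChange0_germ)
open Groth.Agent.SetsStage24 (val val_map val_congr' res At exists_at)
open Groth.Agent.Gabber24 (prodFst prodSnd)

variable {X' X : Scheme.{u}} {f : X' ⟶ X} {F' : EtDesc.Sh X'}
  {φ : (EtDesc.pullSh (pullback.fst f f)).obj F' ≅ (EtDesc.pullSh (pullback.snd f f)).obj F'}

lemma isULocZeroAcyclic_of_isPullback {X Y X₁ Y₁ : Scheme.{u}} {g : X ⟶ Y} (hg : EtAcyc.IsULocZeroAcyclic g)
    {g₁ : X₁ ⟶ Y₁} {b' : X₁ ⟶ X} {b : Y₁ ⟶ Y} (h : IsPullback b' g₁ g b) : EtAcyc.IsULocZeroAcyclic g₁ :=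
  fun _ _ g₂ c' c hc => hg g₂ (c' ≫ b') (c ≫ b) (hc.paste_horiz h)

/-- The germ of the image under base change. -/
lemma baseChange0Sh_germ {X S Y T : Scheme.{u}} (f : X ⟶ S) (g : T ⟶ S) (h : Y ⟶ X) (e : Y ⟶ T)
    (w : e ≫ g = h ≫ f) (F : EtDesc.Sh T) {Ω : Type u} [Field Ω] [IsSepClosed Ω]
    (ξ : Spec (CommRingCat.of Ω) ⟶ X) {V : S.Etale} (v : fib (ξ ≫ f) V)
    (t : F.obj.obj (op ((EtCoh.bc g).obj V))) :
    (Sets.stalk ξ).map (EtBC.baseChange0Sh g f h e w F)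
        (Sets.stalkPull f ξ ((EtDesc.pushSh g).obj F) (Sets.germ (ξ ≫ f) ((EtDesc.pushSh g).obj F) v t)) =
      Sets.germ ξ ((EtDesc.pushSh h).obj ((EtDesc.pullSh e).obj F)) (liftFib f ξ v)
        (((EtDesc.pullSh e).obj F).obj.map (sqHom g f h e w V).op (res e F t)) := by
  rw [Sets.germ_stalkPull, Sets.germ_nat, baseChange0_germ]

set_option maxHeartbeats 1000000 in
/-- A section transporting a germ, on the base change of a quasi-compact chart. -/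
theorem exists_uloc_section (huloc : EtAcyc.IsULocZeroAcyclic f) {Ω : Type u} [Field Ω] [IsSepClosed Ω]
    {ξ : Spec (CommRingCat.of Ω) ⟶ X'} (N : X'.Etale) (n : Spec (CommRingCat.of Ω) ⟶ N.left)
    (hn : n ≫ N.hom = ξ) (s : F'.obj.obj (op N))
    (φ : (EtDesc.pullSh (pullback.fst f f)).obj F' ≅ (EtDesc.pullSh (pullback.snd f f)).obj F')
    (U₀ : X.Etale) (v₀ : fib (ξ ≫ f) U₀) {Z₀ : Scheme.{u}} (g : Z₀ ⟶ U₀.left) [QuasiCompact g]
    [QuasiSeparated g] (σ₀ : Z₀ ⟶ X') (hg : g ≫ U₀.hom = σ₀ ≫ f) :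
    ∃ (V : U₀.left.Etale) (v : Spec (CommRingCat.of Ω) ⟶ V.left) (_ : v ≫ V.hom = v₀.left)
      (τ : ((EtDesc.pullSh (((EtCoh.bc g).obj V).hom ≫ σ₀)).obj F').obj.obj (op (EtCoh.top ((EtCoh.bc g).obj V).left)))
      (R : Scheme.{u}) (b : R ⟶ V.left) (χ : R ⟶ X') (β : R ⟶ N.left) (hβ : β ≫ N.hom = χ)
      (r₀ : Spec (CommRingCat.of Ω) ⟶ R), r₀ ≫ b = v ∧ r₀ ≫ β = n ∧
        (UniversallyOpen f → IsOpenMap b) ∧ (Flat f → GeneralizingMap b) ∧
        ∀ (K : Type u) [Field K] [IsSepClosed K] (ω : Spec (CommRingCat.of K) ⟶ ((EtCoh.bc g).obj V).left)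
          (k : Spec (CommRingCat.of K) ⟶ R), ω ≫ bcFst g V = k ≫ b →
          ∃ (M : X'.Etale) (m : Spec (CommRingCat.of K) ⟶ M.left)
            (hm : m ≫ M.hom = ω ≫ ((EtCoh.bc g).obj V).hom ≫ σ₀) (r : F'.obj.obj (op M)),
            At (((EtCoh.bc g).obj V).hom ≫ σ₀) F' τ ω ω (Category.comp_id ω) m hm r ∧
              Corr f F' φ (k ≫ χ) (ω ≫ ((EtCoh.bc g).obj V).hom ≫ σ₀) (k ≫ β)
                (by rw [Category.assoc, hβ]) s m hm r := by
  let vl : Spec (CommRingCat.of Ω) ⟶ U₀.left := v₀.left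
  let qX := pullback.fst f U₀.hom
  let f₀ := pullback.snd f U₀.hom
  have hf₀ : EtAcyc.IsULocZeroAcyclic f₀ :=
    isULocZeroAcyclic_of_isPullback huloc (IsPullback.of_hasPullback f U₀.hom)
  let ξ₀ : Spec (CommRingCat.of Ω) ⟶ pullback f U₀.hom := pullback.lift ξ vl (Over.w v₀).symm
  have hξ₀ : ξ₀ ≫ qX = ξ := pullback.lift_fst _ _ _
  have hξ₀' : ξ₀ ≫ f₀ = vl := pullback.lift_snd _ _ _
  let h := pullback.snd g f₀
  let e := pullback.fst g f₀
  have hsq : IsPullback e h g f₀ := IsPullback.of_hasPullback g f₀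
  let y : pullback g f₀ ⟶ EtDesc.X2 f := pullback.lift (h ≫ qX) (e ≫ σ₀) (by
    simp only [h, e, qX, Category.assoc]
    rw [pullback.condition, ← hg, ← Category.assoc, ← pullback.condition, Category.assoc])
  let Nu := (EtCoh.bc qX).obj N
  let wl : Spec (CommRingCat.of Ω) ⟶ Nu.left := pullback.lift n ξ₀ (hn.trans hξ₀.symm)
  let w : fib ξ₀ Nu := Over.homMk wl (pullback.lift_snd _ _ _)
  have hNu : bcFst qX N ≫ N.hom = Nu.hom ≫ qX := pullback.condition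
  let F₀ := (EtDesc.pullSh σ₀).obj F'
  obtain ⟨σY, hσY⟩ := exists_transport e σ₀ y (pullback.lift_snd _ _ _) ((EtCoh.bc h).obj Nu) N
    (bcFst h Nu ≫ bcFst qX N) (by
      rw [Category.assoc, hNu, ← Category.assoc, show bcFst h Nu ≫ Nu.hom = ((EtCoh.bc h).obj Nu).hom ≫ h from
        pullback.condition, Category.assoc, Category.assoc, pullback.lift_fst]) s φ
  haveI := EtSets24.isIso_baseChange0Sh_uloc f₀ hf₀ g h e hsq F₀
  obtain ⟨p, hp⟩ := (ConcreteCategory.bijective_of_isIso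
    ((Sets.stalk ξ₀).map (EtBC.baseChange0Sh g f₀ h e hsq.w F₀))).2
    (Sets.germ ξ₀ ((EtDesc.pushSh h).obj ((EtDesc.pullSh e).obj F₀)) w σY)
  obtain ⟨p', rfl⟩ := (ConcreteCategory.bijective_of_isIso (Sets.stalkPull f₀ ξ₀ ((EtDesc.pushSh g).obj F₀))).2 p
  obtain ⟨V, v, t₀, rfl⟩ := Sets.germ_surjective (ξ₀ ≫ f₀) ((EtDesc.pushSh g).obj F₀) p'
  replace hp := (baseChange0Sh_germ f₀ g h e hsq.w F₀ ξ₀ v t₀).symm.trans hp
  let P := Gabber24.prod ((EtCoh.bc f₀).obj V) Nu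
  let la : Spec (CommRingCat.of Ω) ⟶ ((EtCoh.bc f₀).obj V).left := (liftFib f₀ ξ₀ v).left
  let vP : fib ξ₀ P := Over.homMk (pullback.lift la wl ((Over.w (liftFib f₀ ξ₀ v)).trans (Over.w w).symm)) (by
    show pullback.lift la wl _ ≫ pullback.fst _ _ ≫ ((EtCoh.bc f₀).obj V).hom = ξ₀
    rw [← Category.assoc, pullback.lift_fst]
    exact Over.w (liftFib f₀ ξ₀ v))
  have hP₁ : (Scheme.pointSmallEtale ξ₀).fiber.map (prodFst _ _) vP = liftFib f₀ ξ₀ v :=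
    Over.OverMorphism.ext (pullback.lift_fst _ _ _)
  have hP₂ : (Scheme.pointSmallEtale ξ₀).fiber.map (prodSnd _ _) vP = w :=
    Over.OverMorphism.ext (pullback.lift_snd _ _ _)
  rw [← hP₁, ← hP₂, ← Sets.germ_map, ← Sets.germ_map] at hp
  obtain ⟨R, r, z, hz, hR⟩ := (Sets.germ_eq_iff ξ₀ ((EtDesc.pushSh h).obj ((EtDesc.pullSh e).obj F₀)) vP _ _).1 hp
  let k₁ : R ⟶ (EtCoh.bc f₀).obj V := r ≫ prodFst _ _
  let k₂ : R ⟶ Nu := r ≫ prodSnd _ _
  let b : R.left ⟶ V.left := k₁.left ≫ bcFst f₀ V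
  let χ : R.left ⟶ X' := R.hom ≫ qX
  let β : R.left ⟶ N.left := k₂.left ≫ bcFst qX N
  have hβ : β ≫ N.hom = χ := by
    rw [Category.assoc, hNu, ← Category.assoc, MorphismProperty.Over.w k₂]
  let zl : Spec (CommRingCat.of Ω) ⟶ R.left := z.left
  let vl₁ : Spec (CommRingCat.of Ω) ⟶ V.left := v.left
  obtain ⟨τ, hτ⟩ := exists_comp_section σ₀ ((EtCoh.bc g).obj V) t₀
  refine ⟨V, vl₁, (Over.w v).trans hξ₀', τ, R.left, b, χ, β, hβ, zl, ?_, ?_, ?_, ?_, fun K _ _ ω k hωk => ?_⟩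
  · show zl ≫ (r.left ≫ (prodFst _ _).left) ≫ bcFst f₀ V = vl₁
    rw [← Category.assoc, ← Category.assoc]
    refine (congrArg (fun x : fib ξ₀ P => (x.left ≫ (prodFst _ _).left) ≫ bcFst f₀ V) hz).trans ?_
    exact (congrArg (· ≫ bcFst f₀ V) (pullback.lift_fst _ _ _)).trans (pullback.lift_fst _ _ _)
  · show zl ≫ (r.left ≫ (prodSnd _ _).left) ≫ bcFst qX N = n
    rw [← Category.assoc, ← Category.assoc]
    refine (congrArg (fun x : fib ξ₀ P => (x.left ≫ (prodSnd _ _).left) ≫ bcFst qX N) hz).trans ?_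
    exact (congrArg (· ≫ bcFst qX N) (pullback.lift_snd _ _ _)).trans (pullback.lift_fst _ _ _)
  · intro hf
    haveI := etale_left k₁
    have h1 : UniversallyOpen (bcFst f₀ V) :=
      MorphismProperty.pullback_fst (P := @UniversallyOpen) _ _ (MorphismProperty.pullback_snd _ _ hf)
    rw [show (b : R.left → V.left) = bcFst f₀ V ∘ k₁.left from funext fun x => Scheme.Hom.comp_apply _ _ x]
    exact (@Scheme.Hom.isOpenMap _ _ (bcFst f₀ V) h1).comp k₁.left.isOpenMap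
  · intro hf
    haveI := etale_left k₁
    have h1 : Flat (bcFst f₀ V) :=
      MorphismProperty.pullback_fst (P := @Flat) _ _ (MorphismProperty.pullback_snd _ _ hf)
    rw [show (b : R.left → V.left) = bcFst f₀ V ∘ k₁.left from funext fun x => Scheme.Hom.comp_apply _ _ x]
    exact (Flat.generalizingMap k₁.left).comp (@Flat.generalizingMap _ _ (bcFst f₀ V) h1)
  -- values
  let W := (EtCoh.bc g).obj V
  have hωk' : (ω ≫ W.hom) ≫ g = (k ≫ R.hom) ≫ f₀ := by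
    have h1 : bcFst g V ≫ V.hom = W.hom ≫ g := pullback.condition
    have h2 : b ≫ V.hom = R.hom ≫ f₀ := by
      rw [Category.assoc, show bcFst f₀ V ≫ V.hom = ((EtCoh.bc f₀).obj V).hom ≫ f₀ from pullback.condition,
        ← Category.assoc, MorphismProperty.Over.w k₁]
    rw [Category.assoc, ← h1, ← Category.assoc, hωk, Category.assoc, h2, Category.assoc]
  let ζ : Spec (CommRingCat.of K) ⟶ pullback g f₀ := pullback.lift (ω ≫ W.hom) (k ≫ R.hom) hωk'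
  have hζe : ζ ≫ e = ω ≫ W.hom := pullback.lift_fst _ _ _
  have hζh : ζ ≫ h = k ≫ R.hom := pullback.lift_snd _ _ _
  let ψ : Spec (CommRingCat.of K) ⟶ ((EtCoh.bc h).obj R).left := pullback.lift k ζ hζh.symm
  have hψ : ψ ≫ ((EtCoh.bc h).obj R).hom = ζ := pullback.lift_snd _ _ _
  have hψf : ψ ≫ bcFst h R = k := pullback.lift_fst _ _ _
  let ψ₂ := ψ ≫ ((EtCoh.bc h).map k₂).left
  have hψ₂ : ψ₂ ≫ ((EtCoh.bc h).obj Nu).hom = ζ := by
    rw [Category.assoc, MorphismProperty.Over.w, hψ]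
  have hψ₂m : ψ₂ ≫ bcFst h Nu ≫ bcFst qX N = k ≫ β := by
    refine (Category.assoc _ _ _).trans ((congrArg (ψ ≫ ·) ((Category.assoc _ _ _).symm.trans
      (congrArg (· ≫ bcFst qX N) (bcFst_nat h k₂)))).trans ?_)
    exact (congrArg (ψ ≫ ·) (Category.assoc _ _ _)).trans
      ((Category.assoc _ _ _).symm.trans (congrArg (· ≫ β) hψf))
  have hw : (k ≫ χ) ≫ f = ((ζ ≫ e) ≫ σ₀) ≫ f := by
    rw [hζe, show (k ≫ χ) ≫ f = ((k ≫ R.hom) ≫ f₀) ≫ U₀.hom by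
      simp only [χ, qX, f₀, Category.assoc]; rw [pullback.condition], ← hωk']
    simp only [Category.assoc, hg]
  obtain ⟨M, m, hm, r', hr'⟩ := exists_corr (φ := φ) (z₂ := (ζ ≫ e) ≫ σ₀) hw
    (show (k ≫ β) ≫ N.hom = k ≫ χ by rw [Category.assoc, hβ]) s
  have hm' : m ≫ M.hom = ω ≫ W.hom ≫ σ₀ := hm.trans (by rw [hζe, Category.assoc])
  refine ⟨M, m, hm', r', ?_, hr'.of_eq rfl (by rw [hζe, Category.assoc])⟩
  have h5 := hσY K ζ ψ₂ hψ₂ (k ≫ χ) ((congrArg (· ≫ N.hom) hψ₂m).trans (by rw [Category.assoc, hβ])) M m hm r'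
    (hr'.congr_left (congrArg (fun x => Sets.germ (k ≫ χ) F' x s) (Over.OverMorphism.ext hψ₂m.symm)))
  have h6 := EtSets24.at_sqHom f₀ g h e hsq.w.symm F₀ k₁ t₀ ζ ψ hψ ω hζe.symm (by
    rw [hωk, ← Category.assoc ψ, hψf])
  have h8 : val ((EtDesc.pullSh e).obj F₀) ζ ψ hψ
      (((EtDesc.pullSh e).obj F₀).obj.map ((EtCoh.bc h).map k₁).op
        (((EtDesc.pullSh e).obj F₀).obj.map (sqHom g f₀ h e hsq.w V).op (res e F₀ t₀))) =
      val ((EtDesc.pullSh e).obj F₀) ζ ψ₂ hψ₂ σY := by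
    refine Eq.trans ?_ (val_map ((EtDesc.pullSh e).obj F₀) ζ ((EtCoh.bc h).map k₂) ψ hψ ψ₂ hψ₂ rfl σY)
    refine congrArg (fun x => val ((EtDesc.pullSh e).obj F₀) ζ ψ hψ x) ?_
    simp only [k₁, k₂, Functor.map_comp, op_comp, ConcreteCategory.comp_apply]
    exact hR
  have h10 := (ConcreteCategory.bijective_of_isIso (Sets.stalkPull e ζ F₀)).1 ((h6.symm.trans (h8.trans h5)))
  refine hτ K ω (ζ ≫ e) hζe.symm M m hm r' hm' h10

/-- Compatibility above points of the chart, and the conclusion on an open subset. -/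
theorem exists_compat_of_open (hφ : EtDesc.IsCocycle F' φ) {Ω : Type u} [Field Ω] [IsSepClosed Ω]
    {ξ : Spec (CommRingCat.of Ω) ⟶ X'} {N : X'.Etale} {n : Spec (CommRingCat.of Ω) ⟶ N.left}
    (hn : n ≫ N.hom = ξ) {s : F'.obj.obj (op N)} (U₁ : X.Etale) (v₁ : Spec (CommRingCat.of Ω) ⟶ U₁.left)
    (hv₁ : v₁ ≫ U₁.hom = ξ ≫ f) {Z₁ : Scheme.{u}} (π₁ : Z₁ ⟶ U₁.left) (σ₁ : Z₁ ⟶ X')
    (hπ₁ : π₁ ≫ U₁.hom = σ₁ ≫ f) (τ₁ : ((EtDesc.pullSh σ₁).obj F').obj.obj (op (EtCoh.top Z₁)))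
    (hv : ∀ (K : Type u) [Field K] [IsSepClosed K] (c : Spec (CommRingCat.of K) ⟶ Spec (CommRingCat.of Ω))
      (ω : Spec (CommRingCat.of K) ⟶ Z₁), ω ≫ π₁ = c ≫ v₁ →
      ∃ (M : X'.Etale) (m : Spec (CommRingCat.of K) ⟶ M.left) (hm : m ≫ M.hom = ω ≫ σ₁) (r : F'.obj.obj (op M)),
        At σ₁ F' τ₁ ω ω (Category.comp_id ω) m hm r ∧
          Corr f F' φ (c ≫ ξ) (ω ≫ σ₁) (c ≫ n) (by rw [Category.assoc, hn]) s m hm r)
    (O : U₁.left.Opens) (hvO : v₁ default ∈ O)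
    (hO : ∀ (K : Type u) [Field K] [IsSepClosed K] (ω ω' : Spec (CommRingCat.of K) ⟶ Z₁),
      ω ≫ π₁ = ω' ≫ π₁ → (ω ≫ π₁) default ∈ O → CorrT f F' φ σ₁ τ₁ σ₁ τ₁ ω ω')
    (hsub : EtDesc.IsUnivSubmersive (π₁ ∣_ O)) :
    ∃ (U : X.Etale) (v : fib (ξ ≫ f) U) (t : F'.obj.obj (op ((EtCoh.bc f).obj U))), CompatS f F' φ t ∧
      Sets.germ ξ F' (liftFib f ξ v) t = val F' ξ n hn s := by
  let U₂ := EtSite.sub U₁ O
  let j := (π₁ ⁻¹ᵁ O).ι
  let π₂ : (π₁ ⁻¹ᵁ O).toScheme ⟶ U₂.left := π₁ ∣_ O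
  have hjπ : π₂ ≫ O.ι = j ≫ π₁ := morphismRestrict_ι π₁ O
  obtain ⟨τ₂, hτ₂⟩ := exists_restrict σ₁ j τ₁
  haveI : IsOpenImmersion (O.ι : (O : Scheme.{u}) ⟶ U₁.left) := Scheme.Opens.instIsOpenImmersionι O
  let l : Spec (CommRingCat.of Ω) ⟶ (O : Scheme.{u}) := IsOpenImmersion.lift O.ι v₁ (by
    rintro _ ⟨x, rfl⟩
    exact ⟨⟨v₁ x, by rw [Subsingleton.elim x default]; exact hvO⟩, rfl⟩)
  have hl : l ≫ O.ι = v₁ := IsOpenImmersion.lift_fac _ _ _
  let v₂ : fib (ξ ≫ f) U₂ := Over.homMk (l : Spec (CommRingCat.of Ω) ⟶ U₂.left) (by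
    show l ≫ O.ι ≫ U₁.hom = ξ ≫ f
    rw [← Category.assoc, hl, hv₁])
  obtain ⟨z, -⟩ := (hsub _ (l : Spec (CommRingCat.of Ω) ⟶ U₂.left)).1 default
  let δ := geomPt (pullback π₂ (l : Spec (CommRingCat.of Ω) ⟶ U₂.left)) z
  let c := δ ≫ pullback.snd π₂ (l : Spec (CommRingCat.of Ω) ⟶ U₂.left)
  let ω := δ ≫ pullback.fst π₂ (l : Spec (CommRingCat.of Ω) ⟶ U₂.left)
  have hω : ω ≫ π₂ = c ≫ l := by simp only [ω, c, Category.assoc, pullback.condition]; rfl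
  have hωj : (ω ≫ j) ≫ π₁ = c ≫ v₁ := by
    exact (Category.assoc _ _ _).trans ((congrArg (ω ≫ ·) hjπ.symm).trans ((Category.assoc _ _ _).symm.trans
      ((congrArg (· ≫ O.ι) hω).trans ((Category.assoc _ _ _).trans (congrArg (c ≫ ·) hl)))))
  obtain ⟨M, m, hm, r, a, ha⟩ := hv _ c (ω ≫ j) hωj
  refine exists_compat_of_cover hφ hn U₂ v₂ π₂ (j ≫ σ₁) ?_ hsub τ₂ ?_
    c ω hω M m (hm.trans (Category.assoc _ _ _)) r (hτ₂ _ ω M m hm r _ a)
    ((ha.symm hφ).of_eq (Category.assoc _ _ _) rfl)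
  · show π₂ ≫ O.ι ≫ U₁.hom = _
    exact (Category.assoc _ _ _).symm.trans ((congrArg (· ≫ U₁.hom) hjπ).trans ((Category.assoc _ _ _).trans
      ((congrArg (j ≫ ·) hπ₁).trans (Category.assoc _ _ _).symm)))
  · intro K _ _ ω₁ ω₂ he
    refine CorrT.restrict hτ₂ (hO K (ω₁ ≫ j) (ω₂ ≫ j) ?_ ?_)
    · exact (Category.assoc _ _ _).trans ((congrArg (ω₁ ≫ ·) hjπ.symm).trans ((Category.assoc _ _ _).symm.trans
        ((congrArg (· ≫ O.ι) he).trans ((Category.assoc _ _ _).trans ((congrArg (ω₂ ≫ ·) hjπ).trans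
          (Category.assoc _ _ _).symm)))))
    · rw [Category.assoc, ← hjπ, ← Category.assoc, Scheme.Hom.comp_apply]
      exact ((ω₁ ≫ π₂) default).2

/-- Sections transporting one germ correspond above the image of the chart. -/
theorem corrT_of_mem_range (hφ : EtDesc.IsCocycle F' φ) {Z V R : Scheme.{u}} (σ : Z ⟶ X') {π : Z ⟶ V}
    {uh : V ⟶ X} (hπ : π ≫ uh = σ ≫ f) {τ : ((EtDesc.pullSh σ).obj F').obj.obj (op (EtCoh.top Z))}
    {N : X'.Etale} {s : F'.obj.obj (op N)} (b : R ⟶ V) (χ : R ⟶ X') (β : R ⟶ N.left) (hβ : β ≫ N.hom = χ)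
    (hkey : ∀ (K : Type u) [Field K] [IsSepClosed K] (ω : Spec (CommRingCat.of K) ⟶ Z)
      (k : Spec (CommRingCat.of K) ⟶ R), ω ≫ π = k ≫ b →
      ∃ (M : X'.Etale) (m : Spec (CommRingCat.of K) ⟶ M.left) (hm : m ≫ M.hom = ω ≫ σ) (r : F'.obj.obj (op M)),
        At σ F' τ ω ω (Category.comp_id ω) m hm r ∧
          Corr f F' φ (k ≫ χ) (ω ≫ σ) (k ≫ β) (by rw [Category.assoc, hβ]) s m hm r)
    {K : Type u} [Field K] [IsSepClosed K] (ω ω' : Spec (CommRingCat.of K) ⟶ Z)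
    (he : ω ≫ π = ω' ≫ π) (hmem : (ω ≫ π) default ∈ Set.range b) : CorrT f F' φ σ τ σ τ ω ω' := by
  obtain ⟨x, hx⟩ := hmem
  obtain ⟨E, hE⟩ := exists_corr_locus φ σ τ σ τ ω ω' (by
    rw [Category.assoc, ← hπ, ← Category.assoc, he, Category.assoc, hπ, Category.assoc])
  obtain ⟨w, -⟩ := Scheme.Pullback.exists_preimage_pullback (f := ω ≫ π) (g := b) default x hx.symm
  let δ := geomPt (pullback (ω ≫ π) b) w
  let c := δ ≫ pullback.fst (ω ≫ π) b
  let k := δ ≫ pullback.snd (ω ≫ π) b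
  have h₁ : (c ≫ ω) ≫ π = k ≫ b := by simp only [c, k, Category.assoc, pullback.condition]
  have h₂ : (c ≫ ω') ≫ π = k ≫ b := by rw [Category.assoc, ← he, ← Category.assoc, h₁]
  obtain ⟨M, m, hm, r, a, ha⟩ := hkey _ _ k h₁
  obtain ⟨M', m', hm', r', a', ha'⟩ := hkey _ _ k h₂
  have h3 : c default ∈ E := (hE _ c).2 ⟨M, m, hm, r, M', m', hm', r', a, a', (ha.symm hφ).trans hφ ha'⟩
  rw [Subsingleton.elim (c default) ((𝟙 (Spec (CommRingCat.of K)) : _) default)] at h3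
  exact ((hE K (𝟙 _)).1 h3).congr_snd_map (Category.id_comp _) (Category.id_comp _)

lemma isUnivSubmersive_morphismRestrict_of_open {Z V : Scheme.{u}} (π : Z ⟶ V) [UniversallyOpen π] (O : V.Opens)
    (h : (O : Set V) ⊆ Set.range π) : EtDesc.IsUnivSubmersive (π ∣_ O) := by
  haveI : UniversallyOpen (π ∣_ O) :=
    MorphismProperty.of_isPullback (isPullback_morphismRestrict π O).flip ‹UniversallyOpen π›
  haveI : Surjective (π ∣_ O) := ⟨fun x => by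
    obtain ⟨z, hz⟩ := h x.2
    exact ⟨⟨z, by show π z ∈ O; rw [hz]; exact x.2⟩, Subtype.ext ((morphismRestrict_base_coe π O _).trans hz)⟩⟩
  exact EtSets24.isUnivSubmersive_of_universallyOpen _

set_option maxHeartbeats 2000000 in
/-- Universally open surjective universally locally 0-acyclic morphisms are of effective descent. -/
theorem isEffective_of_uloc_open [UniversallyOpen f] [Surjective f] (huloc : EtAcyc.IsULocZeroAcyclic f)
    (hφ : EtDesc.IsCocycle F' φ) : EtDesc.IsEffective f F' φ := by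
  refine isEffective_of_exists_compat f F' φ (EtSets24.isUnivSubmersive_of_universallyOpen f) ?_
  intro Ω _ _ ξ N n hn s
  obtain ⟨A, hA, hxA, -⟩ := exists_isAffineOpen_mem_and_subset (x := (ξ ≫ f) default) (U := (⊤ : X.Opens)) trivial
  haveI : IsAffine A.toScheme := hA
  let U₀ : X.Etale := Scheme.Etale.mk A.ι
  let vl : Spec (CommRingCat.of Ω) ⟶ A.toScheme := IsOpenImmersion.lift A.ι (ξ ≫ f) (by
    rw [Scheme.Opens.range_ι]
    rintro _ ⟨x, rfl⟩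
    rw [Subsingleton.elim x default]; exact hxA)
  have hvl : vl ≫ A.ι = ξ ≫ f := IsOpenImmersion.lift_fac _ _ _
  let v₀ : fib (ξ ≫ f) U₀ := Over.homMk (vl : Spec (CommRingCat.of Ω) ⟶ U₀.left) hvl
  let x₀ : Spec (CommRingCat.of Ω) ⟶ pullback f A.ι := pullback.lift ξ vl hvl.symm
  obtain ⟨W, hW, hxW, -⟩ := exists_isAffineOpen_mem_and_subset (x := x₀ default)
    (U := (⊤ : (pullback f A.ι).Opens)) trivial
  haveI : IsAffine W.toScheme := hW
  let xW : Spec (CommRingCat.of Ω) ⟶ W.toScheme := IsOpenImmersion.lift W.ι x₀ (by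
    rw [Scheme.Opens.range_ι]
    rintro _ ⟨x, rfl⟩
    rw [Subsingleton.elim x default]; exact hxW)
  have hxW' : xW ≫ W.ι = x₀ := IsOpenImmersion.lift_fac _ _ _
  let g₀ : W.toScheme ⟶ A.toScheme := W.ι ≫ pullback.snd f A.ι
  haveI : QuasiCompact g₀ := inferInstance
  haveI : QuasiSeparated g₀ := inferInstance
  haveI : UniversallyOpen g₀ := inferInstance
  let g : W.toScheme ⟶ U₀.left := g₀
  haveI : QuasiCompact g := ‹QuasiCompact g₀›
  haveI : QuasiSeparated g := ‹QuasiSeparated g₀›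
  haveI : UniversallyOpen g := ‹UniversallyOpen g₀›
  let σ₀ : W.toScheme ⟶ X' := W.ι ≫ pullback.fst f A.ι
  obtain ⟨V, v, hv, τ, R, b, χ, β, hβ, r₀, hrb, hrβ, hbo, -, hkey⟩ :=
    exists_uloc_section huloc N n hn s φ U₀ v₀ g σ₀ (by
      show (W.ι ≫ pullback.snd f A.ι) ≫ A.ι = (W.ι ≫ pullback.fst f A.ι) ≫ f
      rw [Category.assoc, ← pullback.condition, Category.assoc])
  haveI : AlgebraicGeometry.Etale V.hom := V.prop
  haveI : AlgebraicGeometry.Etale U₀.hom := U₀.prop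
  let U₁ : X.Etale := Scheme.Etale.mk (V.hom ≫ U₀.hom)
  let Wv := (EtCoh.bc g).obj V
  let π₁ : Wv.left ⟶ U₁.left := bcFst g V
  haveI hπo : UniversallyOpen π₁ := MorphismProperty.pullback_fst (P := @UniversallyOpen) _ _ ‹UniversallyOpen g›
  have hr₀ : r₀ ≫ χ = ξ := by rw [← hβ, ← Category.assoc, hrβ, hn]
  let O : U₁.left.Opens := ⟨Set.range b ∩ Set.range π₁, (hbo ‹_›).isOpen_range.inter π₁.isOpenMap.isOpen_range⟩
  have hπ : π₁ ≫ U₁.hom = (Wv.hom ≫ σ₀) ≫ f := by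
    show bcFst g V ≫ V.hom ≫ A.ι = (Wv.hom ≫ W.ι ≫ pullback.fst f A.ι) ≫ f
    rw [← Category.assoc, show bcFst g V ≫ V.hom = Wv.hom ≫ g from pullback.condition]
    show (Wv.hom ≫ W.ι ≫ pullback.snd f A.ι) ≫ A.ι = _
    simp only [Category.assoc, pullback.condition]
  refine exists_compat_of_open hφ hn U₁ v ?_ π₁ (Wv.hom ≫ σ₀) ?_ τ ?_ O ?_ ?_
    (isUnivSubmersive_morphismRestrict_of_open π₁ O fun x hx => hx.2)
  · show v ≫ V.hom ≫ A.ι = ξ ≫ f
    rw [← Category.assoc]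
    exact (congrArg (· ≫ A.ι) hv).trans hvl
  · exact hπ
  · intro K _ _ c ω hω
    obtain ⟨M, m, hm, r, a, ha⟩ := hkey K ω (c ≫ r₀) (by rw [Category.assoc, hrb]; exact hω)
    refine ⟨M, m, hm, r, a, (ha.of_eq (show (c ≫ r₀) ≫ χ = c ≫ ξ by rw [Category.assoc, hr₀]) rfl).congr_left ?_⟩
    exact congrArg (fun x => Sets.germ _ F' x s) (Over.OverMorphism.ext (by
      show (c ≫ r₀) ≫ β = c ≫ n
      rw [Category.assoc, hrβ]))
  · refine ⟨⟨r₀ default, (Scheme.Hom.comp_apply _ _ _).symm.trans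
      (congrArg (fun q : Spec (CommRingCat.of Ω) ⟶ V.left => q default) hrb)⟩, ?_⟩
    let l : Spec (CommRingCat.of Ω) ⟶ Wv.left := pullback.lift v xW (by
      refine hv.trans ?_
      show vl = xW ≫ W.ι ≫ pullback.snd f A.ι
      rw [← Category.assoc, hxW', pullback.lift_snd])
    exact ⟨l default, (Scheme.Hom.comp_apply _ _ _).symm.trans
      (congrArg (fun q : Spec (CommRingCat.of Ω) ⟶ U₁.left => q default) (pullback.lift_fst _ _ _))⟩
  · intro K _ _ ω ω' he hmem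
    exact corrT_of_mem_range hφ (Wv.hom ≫ σ₀) (π := π₁) (uh := U₁.hom) hπ b χ β hβ hkey ω ω' he hmem.1

end Groth.Agent.EffDesc24
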